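import Cfsg.Agent.H601.OddDeg.Parity
import Cfsg.Agent.H163.Steinberg
import Cfsg.Agent.FixBN.TwOfBN
import Cfsg.Agent.H612.BNAut
import Cfsg.Agent.Tits.ExtAux
import Cfsg.Agent.Tits.Gate
import Cfsg.Agent.H519.LieRank
import Cfsg.Agent.Nodes.Unique
import Cfsg.Agent.H612.Sym
import Cfsg.Agent.FastGrp
import Cfsg.Agent.Prune
set_option linter.all false

section
prune_inst 0x7f00000000000000000000000000000000000000000000000000000000000000000000000000000000000000000000000000000000000000000000000000000000000000000000000000000000000000003fffffffffffffffffffffffffffbeffbdfbfeffff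

-- part: H601/OddDeg/BN
section
set_option linter.all false
open scoped Cfsg.Agent.FastGrp

-- part: H601/OddDeg/St
section
/-!
# The Steinberg character is real and invariant under automorphisms

* `inv_of_split` : a finite group with a split (B,N)-pair of odd characteristic and positive rank has a character `χ`
  with `Inv χ`, `χ 1 = |U|`, and `mult (PJ P e {i}) χ = 0` for all nodes `i`.
-/

set_option autoImplicit false
set_option linter.unusedSectionVars false

namespace Cfsg.Agent.H601.OddDeg.SteinbergInv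

open Cfsg Cfsg.Agent.Tits.Core Cfsg.Agent.Tits.Core.Bldg Cfsg.Agent.FixBN Cfsg.Agent.H163.Steinberg
open Cfsg.Agent.Tits.OfBN Cfsg.Agent.FixBN.OfBN Cfsg.Agent.FixBN.TwOfBN Cfsg.Agent.H612.BNCosets
open Cfsg.Agent.Characters.Core Cfsg.Agent.Tits.OppRes
open scoped ComplexConjugate Classical

section Building

variable {I : Type*} {M : CoxeterMatrix I} {W : Type*} [Group W] [Finite W] {cs : CoxeterSystem M W} {C : Type*}
  [Fintype C] {Δ : Bldg cs C} {G : Type*} [Group G] [MulAction G C] [Finite G] {p : ℕ} (S : FixBN.Sys Δ G p)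

/-- complex conjugation on the Steinberg space -/
theorem conj_mem {f : C → ℂ} (hf : f ∈ St Δ) : (fun x => conj (f x)) ∈ St Δ := by
  intro i x
  have h1 := hf i x
  unfold psum at h1 ⊢
  have h2 := congrArg (fun z : ℂ => conj z) h1
  simp only [map_sum, map_zero] at h2
  refine Eq.trans ?_ h2
  refine Finset.sum_congr rfl fun y _ => ?_
  split_ifs
  · rfl
  · simp

/-- The Steinberg character is real-valued. -/
theorem character_im [Nonempty C] (g : G) : ((rep (G := G) S.iso).character g).im = 0 := by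
  obtain ⟨c⟩ := (inferInstance : Nonempty C)
  let E := resEquiv Δ c
  have htr : (rep (G := G) S.iso).character g = LinearMap.trace ℂ _ (E.conj (rep (G := G) S.iso g)) := by
    rw [LinearMap.trace_conj']
    rfl
  rw [htr, LinearMap.trace_eq_matrix_trace ℂ (Pi.basisFun ℂ {d // Δ.Opp c d}), Matrix.trace, Complex.im_sum]
  refine Finset.sum_eq_zero fun e _ => ?_
  rw [Matrix.diag_apply, LinearMap.toMatrix_apply, Pi.basisFun_apply, Pi.basisFun_repr, LinearEquiv.conj_apply_apply]
  -- the function `E.symm (single e)` is real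
  set f : St Δ := E.symm (Pi.single e (1 : ℂ)) with hf
  have hfe : res Δ c f = Pi.single e (1 : ℂ) := E.apply_symm_apply _
  have hreal : (⟨fun x => conj ((f : C → ℂ) x), conj_mem f.2⟩ : St Δ) = f := by
    apply res_injective Δ c
    rw [hfe]
    funext d
    change conj ((f : C → ℂ) d) = _
    have h1 : (f : C → ℂ) d = (Pi.single e (1 : ℂ) : {d // Δ.Opp c d} → ℂ) d := congrFun hfe d
    rw [h1, Pi.single_apply]
    split_ifs
    · exact map_one _
    · exact map_zero _
  change ((f : C → ℂ) (g⁻¹ • (e : C))).im = 0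
  have h2 := congrFun (congrArg Subtype.val hreal) (g⁻¹ • (e : C))
  exact Complex.conj_eq_iff_im.1 h2

/-- Transport of the Steinberg character by a map of buildings. -/
theorem character_map (α : G → G) (θ : C ≃ C) (σ : I → I) (hσ : Function.Surjective σ)
    (hθ : ∀ (k : G) (x : C), θ (k • x) = α k • θ x)
    (hpan : ∀ (i : I) (x y : C), θ y ∈ Δ.Pan (σ i) (θ x) ↔ y ∈ Δ.Pan i x) (k : G) :
    (rep (G := G) S.iso).character (α k) = (rep (G := G) S.iso).character k := by
  have hmem : ∀ f : C → ℂ, f ∈ St Δ → (fun x => f (θ.symm x)) ∈ St Δ := by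
    intro f hf i x
    obtain ⟨i, rfl⟩ := hσ i
    obtain ⟨x, rfl⟩ := θ.surjective x
    have h1 := hf i x
    unfold psum at h1 ⊢
    refine Eq.trans ?_ h1
    refine (Fintype.sum_equiv θ _ _ fun y => ?_).symm
    simp only [hpan, Equiv.symm_apply_apply]
  have hmem' : ∀ f : C → ℂ, f ∈ St Δ → (fun x => f (θ x)) ∈ St Δ := by
    intro f hf i x
    have h1 := hf (σ i) (θ x)
    unfold psum at h1 ⊢
    refine Eq.trans ?_ h1
    refine Fintype.sum_equiv θ _ _ fun y => ?_
    simp only [hpan]
  let E : St Δ ≃ₗ[ℂ] St Δ :=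
    { toFun := fun f => ⟨fun x => (f : C → ℂ) (θ.symm x), hmem _ f.2⟩
      invFun := fun f => ⟨fun x => (f : C → ℂ) (θ x), hmem' _ f.2⟩
      map_add' := fun _ _ => rfl
      map_smul' := fun _ _ => rfl
      left_inv := fun f => by
        apply Subtype.ext
        funext x
        change (f : C → ℂ) (θ.symm (θ x)) = _
        rw [Equiv.symm_apply_apply]
      right_inv := fun f => by
        apply Subtype.ext
        funext x
        change (f : C → ℂ) (θ (θ.symm x)) = _
        rw [Equiv.apply_symm_apply] }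
  have h1 : rep (G := G) S.iso (α k) = E.conj (rep (G := G) S.iso k) := by
    refine LinearMap.ext fun f => ?_
    rw [LinearEquiv.conj_apply_apply]
    apply Subtype.ext
    funext x
    change (f : C → ℂ) ((α k)⁻¹ • x) = (f : C → ℂ) (θ (k⁻¹ • θ.symm x))
    obtain ⟨y, rfl⟩ : ∃ y, θ (k • y) = x := ⟨k⁻¹ • θ.symm x, by rw [smul_inv_smul, Equiv.apply_symm_apply]⟩
    rw [Equiv.symm_apply_apply, inv_smul_smul, hθ, inv_smul_smul]
  change LinearMap.trace ℂ _ (rep (G := G) S.iso (α k)) = LinearMap.trace ℂ _ (rep (G := G) S.iso k)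
  rw [h1, LinearMap.trace_conj']

/-- A `U c`-invariant function of the Steinberg space vanishing at `c` is zero. -/
theorem eq_zero_of_inv (ht : ∀ x y : C, ∃ g : G, g • x = y) {c : C} {f : St Δ}
    (hf : ∀ u ∈ S.U c, rep (G := G) S.iso u f = f) (h0 : (f : C → ℂ) c = 0) : f = 0 := by
  by_contra hne
  have : Fintype (S.U c) := Fintype.ofFinite _
  obtain ⟨d, hd⟩ : ∃ d, (f : C → ℂ) d ≠ 0 := by
    by_contra hcon
    push Not at hcon
    exact hne (Subtype.ext (funext hcon))
  obtain ⟨g, hg⟩ := ht d c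
  set f' := rep (G := G) S.iso g f with hf'
  set v : St Δ := ∑ u : S.U c, rep (G := G) S.iso (u : G) f' with hv
  have hvc : (v : C → ℂ) c ≠ 0 := by
    have h2 : ∀ u : S.U c, ((rep (G := G) S.iso (u : G) f' : St Δ) : C → ℂ) c = (f : C → ℂ) d := by
      intro u
      rw [rep_apply, S.fix c _ (inv_mem u.2), hf', rep_apply, ← hg, inv_smul_smul]
    rw [hv, Submodule.coe_sum, Finset.sum_apply, Finset.sum_congr rfl fun u _ => h2 u, Finset.sum_const,
      nsmul_eq_mul]
    refine mul_ne_zero ?_ hd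
    rw [Finset.card_univ]
    exact Nat.cast_ne_zero.2 Fintype.card_ne_zero
  have hvinv : ∀ u ∈ S.U c, rep (G := G) S.iso u v = v := by
    intro u hu
    rw [hv, map_sum]
    refine Fintype.sum_equiv (Equiv.mulLeft (⟨u, hu⟩ : S.U c)) _ _ fun v => ?_
    change _ = rep (G := G) S.iso (u * v) f'
    rw [map_mul]
    rfl
  obtain ⟨e, he, hve⟩ := exists_opp_ne_zero (c := c) S hne
  obtain ⟨a, ha⟩ := inv_eq_smul S he hf hvinv hve
  apply hvc
  rw [ha]
  change a * (f : C → ℂ) c = 0
  rw [h0, mul_zero]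

end Building

section BN

variable {K : Type*} [Group K] [Fintype K] {P : Cfsg.BNPair K} {p : ℕ} {U : Subgroup K}

/-- **The Steinberg character of a finite group with a split (B,N)-pair of odd characteristic.** -/
theorem inv_of_split (hs : Split P p U) (hp : p.Prime) (hp2 : p ≠ 2) {I : Type*} {M : CoxeterMatrix I}
    {e : I ≃ P.S} (hM : BNType P M e) :
    ∃ χ : K → ℂ, Inv χ ∧ χ 1 = Nat.card U ∧ ∀ i, mult (PJ P e {i}) χ = 0 := by
  have : Fact p.Prime := ⟨hp⟩
  obtain ⟨hN, cs, hcs⟩ := hM
  have hI : Finite I := finite_I e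
  have : Fintype (K ⧸ P.B) := Fintype.ofFinite _
  set Δ := bldg P e cs hcs with hΔ
  set S := sys e cs hcs hs with hS
  have ht : ∀ x y : K ⧸ P.B, ∃ g : K, g • x = y := fun x y => MulAction.exists_smul_eq K x y
  have hopp : ∀ c : K ⧸ P.B, ∃ d, Δ.Opp c d := fun c => Tits.Opp.exists_opp Δ c
  set c0 : K ⧸ P.B := QuotientGroup.mk 1 with hc0
  have hirr := isIrreducible S ht c0 (hopp c0)
  have hU : S.U c0 = U := by
    ext u
    change u ∈ UU P U (QuotientGroup.mk 1) ↔ _
    rw [mem_UU hs]
    simp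
  have hχirr : IsIrrCharacter K (rep (G := K) S.iso).character := isIrrCharacter_of_rep _ hirr
  have h1 : (rep (G := K) S.iso).character 1 = Nat.card U := by
    rw [character_apply S c0 (hopp c0) 1 (one_mem _), if_pos rfl, hU]
  have hcl := isIrr_isClassFunction hχirr
  refine ⟨(rep (G := K) S.iso).character, ⟨hχirr, fun x => character_im S x, ?_, ?_⟩, h1, ?_⟩
  · -- odd degree
    rw [charDegree, h1]
    have h2 := odd_card hs hp hp2
    rw [Complex.natCast_re, Nat.floor_natCast, ← even_iff_two_dvd, Nat.not_even_iff_odd]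
    exact h2
  · -- invariance
    intro τ x
    obtain ⟨g, hg⟩ := exists_conj hs τ
    set α : K ≃* K := τ.trans (MulAut.conj g⁻¹) with hαdef
    have hα' : ∀ b, α b = g⁻¹ * τ b * g := by
      intro b
      rw [hαdef]
      simp
    have hα : ∀ b, α b ∈ P.B ↔ b ∈ P.B := fun b => by rw [hα']; exact hg b
    have h3 : (rep (G := K) S.iso).character (τ x) = (rep (G := K) S.iso).character (α x) := by
      rw [hα']
      have := hcl (τ x) g⁻¹
      rw [inv_inv] at this
      exact this.symm
    rw [h3]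
    -- the map on chambers
    have hwd : ∀ a b : K, a⁻¹ * b ∈ P.B ↔ (α a)⁻¹ * α b ∈ P.B := by
      intro a b
      rw [← map_inv, ← map_mul, hα]
    let θ₀ : K ⧸ P.B → K ⧸ P.B := Quotient.lift (fun a : K => (QuotientGroup.mk (α a) : K ⧸ P.B))
      (fun a b h => OfBN.mk_eq.2 ((hwd a b).1 (QuotientGroup.leftRel_apply.1 h)))
    have hθ₀ : ∀ a : K, θ₀ (QuotientGroup.mk a) = QuotientGroup.mk (α a) := fun a => rfl
    have hbij : Function.Bijective θ₀ := by
      constructor
      · intro x y hxy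
        induction x using QuotientGroup.induction_on with
        | _ a =>
        induction y using QuotientGroup.induction_on with
        | _ b =>
        rw [hθ₀, hθ₀, OfBN.mk_eq] at hxy
        rw [OfBN.mk_eq]
        exact (hwd a b).2 hxy
      · intro y
        induction y using QuotientGroup.induction_on with
        | _ b => exact ⟨QuotientGroup.mk (α.symm b), by rw [hθ₀, α.apply_symm_apply]⟩
    let θ : K ⧸ P.B ≃ K ⧸ P.B := Equiv.ofBijective θ₀ hbij
    have hC : Cox cs := inferInstance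
    have hσinj : Function.Injective (sigma α hα e cs hcs) := by
      intro i j hij
      apply hC.inj
      apply fW_injective α hα
      rw [fW_simple α hα e cs hcs, fW_simple α hα e cs hcs, hij]
    refine character_map S (fun k => α k) θ (sigma α hα e cs hcs) (Finite.injective_iff_surjective.1 hσinj)
      ?_ ?_ x
    · intro k y
      induction y using QuotientGroup.induction_on with
      | _ a =>
      change θ₀ (k • QuotientGroup.mk a) = α k • θ₀ (QuotientGroup.mk a)
      rw [OfBN.smul_mk, hθ₀, hθ₀, OfBN.smul_mk, map_mul]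
    · intro i y z
      have hδ : ∀ y z, Δ.δ (θ₀ y) (θ₀ z) = fW P α (Δ.δ y z) := by
        intro y z
        induction y using QuotientGroup.induction_on with
        | _ a =>
        induction z using QuotientGroup.induction_on with
        | _ b =>
        rw [hθ₀, hθ₀, hΔ, bldg_δ_mk, bldg_δ_mk, fW_wt α hα]
        congr 1
        rw [map_mul, map_inv]
      rw [Δ.mem_Pan, Δ.mem_Pan]
      change θ₀ z = θ₀ y ∨ Δ.δ (θ₀ y) (θ₀ z) = _ ↔ _
      rw [hδ, ← fW_simple α hα e cs hcs, hbij.1.eq_iff, (fW_injective α hα).eq_iff]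
  · -- no fixed vectors of the minimal parabolic subgroups
    intro i
    have h4 := mult_eq_finrank (PJ P e {i}) (rep (G := K) S.iso)
    rw [h4, Nat.cast_eq_zero, Submodule.finrank_eq_zero, eq_bot_iff]
    intro f hf
    rw [Submodule.mem_bot]
    have hinv : ∀ k ∈ PJ P e {i}, rep (G := K) S.iso k f = f := fun k hk => hf ⟨k, hk⟩
    apply eq_zero_of_inv S ht (c := c0)
    · intro u hu
      rw [hU] at hu
      exact hinv u (B_le_PJ P e {i} (hs.le hu))
    · have h5 : ∀ y ∈ Δ.Pan i c0, (f : K ⧸ P.B → ℂ) y = (f : K ⧸ P.B → ℂ) c0 := by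
        intro y hy
        induction y using QuotientGroup.induction_on with
        | _ a =>
        have ha : a ∈ PJ P e {i} := by
          rw [mem_PJ P e cs hcs]
          rcases Δ.mem_Pan.1 hy with h | h
          · rw [hc0, OfBN.mk_eq, mul_one] at h
            have h6 : wt P a = 1 := by
              have h7 : wt P (1 * a) = wt P 1 := wt_mul_right P 1 (by simpa using inv_mem h)
              rw [one_mul] at h7
              rw [h7]
              exact wt_of_mem P (n := 1) (LieExceptional.BNPairCore.self_mem_C _)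
            rw [h6]
            exact one_mem _
          · rw [hc0, hΔ, bldg_δ_mk, inv_one, one_mul] at h
            rw [h]
            exact Subgroup.subset_closure ⟨i, rfl, rfl⟩
        have h6 := congrArg (fun z : St Δ => (z : K ⧸ P.B → ℂ) (QuotientGroup.mk a)) (hinv a ha)
        simp only [rep_apply] at h6
        rw [← h6]
        rw [OfBN.smul_mk, inv_mul_cancel]
      have h6 := f.2 i c0
      unfold psum at h6
      have h7 : ∑ y, (if y ∈ Δ.Pan i c0 then (f : K ⧸ P.B → ℂ) y else 0) =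
          (Finset.univ.filter fun y => y ∈ Δ.Pan i c0).card * (f : K ⧸ P.B → ℂ) c0 := by
        rw [← Finset.sum_filter, Finset.sum_congr rfl fun y hy => h5 y (Finset.mem_filter.1 hy).2,
          Finset.sum_const, nsmul_eq_mul]
      rw [h7] at h6
      refine (mul_eq_zero.1 h6).resolve_left (Nat.cast_ne_zero.2 ?_)
      apply Finset.card_ne_zero_of_mem (a := c0)
      rw [Finset.mem_filter]
      exact ⟨Finset.mem_univ _, Δ.mem_Pan.2 (Or.inl rfl)⟩

end BN

end Cfsg.Agent.H601.OddDeg.SteinbergInv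
end

-- part: H601/OddDeg/BN
section
/-!
# Groups with a split (B,N)-pair of odd characteristic

* `three_of_split` : three odd degree characters from a set of nodes `J`, invariant under all symmetries of the diagram
  (with labels), with `|W : W_J|` even.
-/

set_option autoImplicit false
set_option linter.unusedSectionVars false

namespace Cfsg.Agent.H601.OddDeg.BN

open Cfsg Cfsg.Agent.Tits.Core Cfsg.Agent.FixBN Cfsg.Agent.LieExceptional.BNPairCore
open Cfsg.Agent.Tits.OfBN Cfsg.Agent.FixBN.OfBN Cfsg.Agent.FixBN.TwOfBN Cfsg.Agent.H612.BNCosets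
open Cfsg.Agent.H612.BNAut Cfsg.Agent.Tits.OppRes
open Cfsg.Agent.Characters.Core

section

variable {K : Type*} [Group K] {P : Cfsg.BNPair K} {I : Type*} {M : CoxeterMatrix I} {e : I ≃ P.S}

/-- An automorphism preserving `B` and all minimal parabolic subgroups preserves the double cosets of `B`. -/
theorem wt_fix [hN : ((P.B ⊓ P.N).subgroupOf P.N).Normal] (cs : CoxeterSystem M (WP P))
    (hcs : ∀ i, cs.simple i = QuotientGroup.mk (⟨(e i : K), P.subset (e i).2⟩ : P.N))
    (hinj : Function.Injective cs.simple) (β : K ≃* K) (hβ : ∀ b, β b ∈ P.B ↔ b ∈ P.B)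
    (h : ∀ i, (PJ P e {i}).map β.toMonoidHom = PJ P e {i}) (x : K) : wt P (β x) = wt P x := by
  have hsig : ∀ i, sigma β hβ e cs hcs i = i := by
    intro i
    have h1 : ((e i : P.S) : K) ∈ PJ P e {i} :=
      (mem_PJ P e cs hcs).2 (by rw [wt_e e cs hcs]; exact Subgroup.subset_closure ⟨i, rfl, rfl⟩)
    have h2 : β (e i : K) ∈ PJ P e {i} := by
      rw [← h i]
      exact ⟨_, h1, rfl⟩
    have h3 := (mem_PJ P e cs hcs).1 h2
    rw [sigma_spec β hβ e cs hcs] at h3
    exact Set.mem_singleton_iff.1 (Cfsg.Agent.Tits.Ext.mem_of_simple_mem_WJ hinj h3)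
  have hone : ∀ w : WP P, fW P β w = w := by
    intro w
    obtain ⟨ω, rfl⟩ := cs.wordProd_surjective w
    induction ω using List.reverseRecOn with
    | nil => rw [cs.wordProd_nil, fW_one β hβ]
    | append_singleton ω i ih =>
      rw [cs.wordProd_append, cs.wordProd_singleton, fW_mul β hβ e cs hcs, ih, fW_simple β hβ e cs hcs, hsig]
  rw [← fW_wt β hβ, hone]

end

section

universe u

variable {K : Type u} [Group K] [Fintype K] {P : Cfsg.BNPair K} {p : ℕ} {U : Subgroup K}

/-- **A character from a set of nodes.** -/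
theorem exists_inv_of_split (hs : Split P p U) (hp : p.Prime) (hp2 : p ≠ 2) {I : Type*} {M : CoxeterMatrix I}
    {e : I ≃ P.S} (hM : BNType P M e) (J : Set I)
    (hJ : ∀ σ : Equiv.Perm I, (∀ i j, M (σ i) (σ j) = M i j) →
      (∀ i, Nat.card (PJ P e {σ i}) = Nat.card (PJ P e {i})) → σ '' J = J ∧ ∃ k : ℕ, σ ^ 2 ^ k = 1)
    (hidx : ∀ {W : Type u} [Group W] [Finite W] (cs : CoxeterSystem M W), 2 ∣ (WJ cs J).index) :
    ∃ χ : K → ℂ, Inv χ ∧ χ ≠ 1 ∧ mult (PJ P e J) χ ≠ 0 := by
  have : Fact p.Prime := ⟨hp⟩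
  obtain ⟨hN, cs, hcs⟩ := hM
  have hI : Finite I := finite_I e
  have hC : Cox cs := inferInstance
  have hpar : 2 ∣ (PJ P e J).index := by
    have h1 := index_parity e hs cs hcs hp hp2 J
    exact (Nat.modEq_zero_iff_dvd.1 (h1.trans (Nat.modEq_zero_iff_dvd.2 (hidx cs))))
  refine exists_inv_of_parity P.B (PJ P e J) (B_le_PJ P e J) hpar fun τ => ?_
  obtain ⟨g, hg⟩ := exists_conj hs τ
  let α : K ≃* K := τ.trans (MulAut.conj g⁻¹)
  have hα' : ∀ b, α b = g⁻¹ * τ b * g := by
    intro b
    change (MulAut.conj g⁻¹) (τ b) = _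
    simp
  have hα : ∀ b, α b ∈ P.B ↔ b ∈ P.B := fun b => by rw [hα']; exact hg b
  have hmap : ∀ β : K ≃* K, (∀ b, β b ∈ P.B ↔ b ∈ P.B) → P.B.map β.toMonoidHom = P.B := by
    intro β hβ
    ext x
    constructor
    · rintro ⟨b, hb, rfl⟩
      exact (hβ b).2 hb
    · intro hx
      exact ⟨β.symm x, (hβ _).1 (by rwa [β.apply_symm_apply]), β.apply_symm_apply x⟩
  obtain ⟨σ, hσ⟩ := exists_perm P e α (hmap α hα)
  obtain ⟨hσJ, k, hk⟩ := hJ σ (label_eq P e cs hcs α (hmap α hα) σ hσ) (fun i => by
    have h1 := hσ {i}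
    rw [Set.image_singleton] at h1
    rw [← h1]
    exact Nat.card_congr ((PJ P e {i}).equivMapOfInjective α.toMonoidHom α.injective).toEquiv.symm)
  refine ⟨α, g, hα', ?_, k, ?_⟩
  · intro x
    have h1 := hσ J
    rw [hσJ] at h1
    constructor
    · intro hx
      rw [← h1] at hx
      obtain ⟨y, hy, hyx⟩ := hx
      rwa [← α.injective hyx]
    · intro hx
      rw [← h1]
      exact ⟨x, hx, rfl⟩
  · -- the power of `α` preserves the double cosets
    have hpow : ∀ (n : ℕ) (i : I), (PJ P e {i}).map ((α ^ n : MulAut K) : K ≃* K).toMonoidHom = PJ P e {(σ ^ n) i} := by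
      intro n
      induction n with
      | zero =>
        intro i
        exact Subgroup.map_id _
      | succ n ih =>
        intro i
        have h1 : ((α ^ (n + 1) : MulAut K) : K ≃* K).toMonoidHom =
            ((α ^ n : MulAut K) : K ≃* K).toMonoidHom.comp α.toMonoidHom := by
          ext x
          rw [pow_succ]
          rfl
        rw [h1, ← Subgroup.map_map, hσ, Set.image_singleton, ih, pow_succ]
        rfl
    have hB : ∀ (n : ℕ) (b : K), (α ^ n : MulAut K) b ∈ P.B ↔ b ∈ P.B := by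
      intro n
      induction n with
      | zero => intro b; exact Iff.rfl
      | succ n ih =>
        intro b
        rw [pow_succ]
        change (α ^ n : MulAut K) (α b) ∈ P.B ↔ _
        rw [ih, hα]
    intro x
    have h1 := wt_fix cs hcs hC.inj ((α ^ 2 ^ k : MulAut K) : K ≃* K) (hB _) (fun i => by
      rw [hpow, hk]
      rfl) x
    exact (TwOfBN.wt_eq_wt_iff).1 h1.symm

/-- **Three odd degree characters of a group with a split (B,N)-pair of odd characteristic.** -/
theorem three_of_split (hs : Split P p U) (hp : p.Prime) (hp2 : p ≠ 2) {I : Type*} {M : CoxeterMatrix I}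
    {e : I ≃ P.S} (hM : BNType P M e) (J : Set I) (hJne : J.Nonempty)
    (hJ : ∀ σ : Equiv.Perm I, (∀ i j, M (σ i) (σ j) = M i j) →
      (∀ i, Nat.card (PJ P e {σ i}) = Nat.card (PJ P e {i})) → σ '' J = J ∧ ∃ k : ℕ, σ ^ 2 ^ k = 1)
    (hidx : ∀ {W : Type u} [Group W] [Finite W] (cs : CoxeterSystem M W), 2 ∣ (WJ cs J).index) : ThreeInv K := by
  obtain ⟨χ, hχ, hχ1, hχJ⟩ := exists_inv_of_split hs hp hp2 hM J hJ hidx
  obtain ⟨ψ, hψ, -, hψi⟩ := SteinbergInv.inv_of_split hs hp hp2 hM
  obtain ⟨i, hi⟩ := hJne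
  have hle : PJ P e {i} ≤ PJ P e J := (PJ_le_iff P e).2 (Set.singleton_subset_iff.2 hi)
  refine ⟨1, χ, ψ, ?_, hχ, hψ, hχ1.symm, ?_, ?_⟩
  · refine ⟨isIrr_one, fun x => by simp, ?_, fun φ x => rfl⟩
    rw [charDegree]
    simp
  · rintro rfl
    have h1 := hψi i
    rw [mult_one] at h1
    exact one_ne_zero h1
  · rintro rfl
    exact mult_ne_zero_of_le hle (isIrr_isCharacter hχ.1) hχJ (hψi i)

end

end Cfsg.Agent.H601.OddDeg.BN
end
end

-- part: H601/OddDeg/Idx
section
set_option linter.all false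
open scoped Cfsg.Agent.FastGrp

/-!
# Parity of the index of parabolic subgroups of Coxeter groups
-/

set_option autoImplicit false
set_option linter.unusedSectionVars false

namespace Cfsg.Agent.H601.OddDeg.Idx

open Cfsg Cfsg.Agent.Tits.Core Cfsg.Agent.Tits.OppRes

variable {I W : Type*} [Group W] [Finite W] [Finite I] {M : CoxeterMatrix I} (cs : CoxeterSystem M W)

omit [Finite W] in
theorem card_WJ_single (i : I) : Nat.card (WJ cs {i}) = 2 := by
  have h1 : ((WJ cs {i} : Subgroup W) : Set W) = {1, cs.simple i} := by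
    ext w
    constructor
    · intro hw
      unfold WJ at hw
      have h2 : w ∈ Subgroup.zpowers (cs.simple i) := by
        refine (Subgroup.closure_le _).2 ?_ hw
        rintro _ ⟨j, hj, rfl⟩
        rw [Set.mem_singleton_iff.1 hj]
        exact Subgroup.mem_zpowers _
      obtain ⟨k, rfl⟩ := Subgroup.mem_zpowers_iff.1 h2
      rcases Int.even_or_odd' k with ⟨m, rfl | rfl⟩
      · left
        rw [zpow_mul]
        have : cs.simple i ^ (2 : ℤ) = 1 := by
          have := cs.simple_sq i
          exact_mod_cast this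
        rw [this, one_zpow]
      · right
        rw [zpow_add, zpow_mul, zpow_one]
        have : cs.simple i ^ (2 : ℤ) = 1 := by
          have := cs.simple_sq i
          exact_mod_cast this
        rw [this, one_zpow, one_mul]
        rfl
    · rintro (rfl | hw)
      · exact one_mem _
      · rw [Set.mem_singleton_iff] at hw
        subst hw
        exact Subgroup.subset_closure ⟨i, rfl, rfl⟩
  have h2 : Nat.card (WJ cs {i}) = ({1, cs.simple i} : Set W).ncard := by
    rw [← h1]
    rfl
  rw [h2, Set.ncard_pair]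
  exact (Cfsg.Agent.H612.BNAut.simple_ne_one cs i).symm

/-- `|W : W_{i}|` is even if some dihedral subgroup has order divisible by `4`. -/
theorem index_single (i : I) {j k : I} (hjk : j ≠ k) (h : 2 ∣ M j k) : 2 ∣ (WJ cs {i}).index := by
  have h1 := (WJ cs {i}).card_mul_index
  have h2 := (WJ cs {j, k}).card_subgroup_dvd_card
  rw [Cfsg.Agent.H612.BNAut.card_WJ_pair cs hjk] at h2
  rw [card_WJ_single] at h1
  have h3 : 2 * 2 ∣ 2 * (WJ cs {i}).index := by
    rw [h1]
    exact (Nat.mul_dvd_mul_left 2 h).trans h2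
  exact Nat.dvd_of_mul_dvd_mul_left two_pos h3

/-- `|W : W_{i,j}|` is even if `i`, `j` are orthogonal and some dihedral subgroup has order divisible by `8`. -/
theorem index_pair {i j : I} (hij : i ≠ j) (h2 : M i j = 2) {k l : I} (hkl : k ≠ l) (h : 4 ∣ M k l) :
    2 ∣ (WJ cs {i, j}).index := by
  have h1 := (WJ cs {i, j}).card_mul_index
  have h3 := (WJ cs {k, l}).card_subgroup_dvd_card
  rw [Cfsg.Agent.H612.BNAut.card_WJ_pair cs hkl] at h3
  rw [Cfsg.Agent.H612.BNAut.card_WJ_pair cs hij, h2] at h1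
  have h4 : 4 * 2 ∣ 4 * (WJ cs {i, j}).index := by
    have h5 : 4 * (WJ cs {i, j}).index = Nat.card W := by rw [← h1]
    rw [h5]
    refine Dvd.dvd.trans ?_ h3
    have h6 := Nat.mul_dvd_mul_left 2 h
    simpa using h6
  exact Nat.dvd_of_mul_dvd_mul_left (by norm_num) h4

end Cfsg.Agent.H601.OddDeg.Idx
end

-- part: H601/OddDeg/Lab
section
set_option linter.all false
open scoped Cfsg.Agent.FastGrp

/-!
# Rank two root group data with two different orders of root groups (S4948, helper601)
-/

set_option autoImplicit false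
set_option linter.unusedSectionVars false

namespace Cfsg.Agent.H601.OddDeg

open Cfsg
open CoxeterSystem Cfsg.Agent.ChevalleyStructure.CoxeterGeom Cfsg.Agent.Tits.Roots
  Cfsg.Agent.Nodes.Comb Cfsg.Agent.Nodes.BNOf Cfsg.Agent.Omega.ML.Ex.Typ

/-- `G` is generated by a root group datum of characteristic `p` and rank two type `M` whose simple root groups have
different orders. -/
def LabT (p : ℕ) (M : CoxeterMatrix (Fin 2)) (G : Type*) [Group G] : Prop :=
  ∃ (A : Fin 2 → Fin 2 → ℤ) (h : IsCartan M A) (T : Subgroup G) (n : Fin 2 → G) (X : (Fin 2 → ℤ) → Subgroup G),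
    Finite M.Group ∧ RGD M.toCoxeterSystem h p T n X ∧ Nodes.RGDLib.G1 M.toCoxeterSystem h X = ⊤ ∧
      Nat.card (X (sr 0)) ≠ Nat.card (X (sr 1))

theorem LabT.of_equiv {p : ℕ} {M : CoxeterMatrix (Fin 2)} {G H : Type*} [Group G] [Group H]
    (e : G ≃* H) (hG : LabT p M G) : LabT p M H := by
  obtain ⟨A, h, T, n, X, hW, R, hX, hr⟩ := hG
  refine ⟨A, h, T.map e.toMonoidHom, fun i => e (n i), fun x => (X x).map e.toMonoidHom, hW,
    Nodes.RGDLib.rgd_map_of_injective R e.toMonoidHom e.injective, ?_, ?_⟩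
  · have h1 : (Nodes.RGDLib.G1 M.toCoxeterSystem h X).map e.toMonoidHom =
        Nodes.RGDLib.G1 M.toCoxeterSystem h (fun x => (X x).map e.toMonoidHom) := by
      unfold Nodes.RGDLib.G1 RGD.Sup
      rw [Subgroup.map_iSup]
    rw [← h1, hX, Subgroup.map_top_of_surjective _ e.surjective]
  · have h1 : ∀ x, Nat.card ((X x).map e.toMonoidHom) = Nat.card (X x) := fun x =>
      Nat.card_congr ((X x).equivMapOfInjective e.toMonoidHom e.injective).toEquiv.symm
    change Nat.card ((X (sr 0)).map e.toMonoidHom) ≠ Nat.card ((X (sr 1)).map e.toMonoidHom)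
    rw [h1, h1]
    exact hr

end Cfsg.Agent.H601.OddDeg
end

-- part: H601/OddDeg/LabRow
section
prune_inst 0x4010000
set_option linter.all false
open scoped Cfsg.Agent.FastGrp

/-!
# Rank two groups with two different orders of root groups
-/

set_option autoImplicit false
set_option linter.unusedSectionVars false

namespace Cfsg.Agent.H601.OddDeg.LabRow

open Cfsg
open CoxeterSystem Cfsg.Agent.ChevalleyStructure.CoxeterGeom Cfsg.Agent.Tits.Roots Cfsg.Agent.Tits.Core
  Cfsg.Agent.Tits.RootComb Cfsg.Agent.Nodes.Comb Cfsg.Agent.Nodes.Reps Cfsg.Agent.Nodes.BNOf Cfsg.Agent.FixBN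
  Cfsg.Agent.H612.BNCosets Cfsg.Agent.Nodes.BNOf.RGD

section

variable {I W Y : Type*} [Fintype I] [DecidableEq I] [Group W] [Group Y] {M : CoxeterMatrix I}
  {cs : CoxeterSystem M W} {A : I → I → ℤ} {h : IsCartan M A} {p : ℕ} {T : Subgroup Y} {n : I → Y}
  {X : (I → ℤ) → Subgroup Y}

/-- conjugation by `n i` -/
theorem inv_mem_B (R : RGD cs h p T n X) (i : I) {v t : Y} (hv : v ∈ Sup X (PosNe cs h i)) (ht : t ∈ T) :
    (n i)⁻¹ * (v * t) * n i ∈ RGD.B cs h T X := by
  have h1 : (n i)⁻¹ * v * n i ∈ Sup X (PosNe cs h i) := by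
    have h2 : v ∈ cj (n i) (Sup X (PosNe cs h i)) := by rw [R.cj_n_V i]; exact hv
    obtain ⟨y, hy, rfl⟩ := h2
    have h3 : (n i)⁻¹ * (MulAut.conj (n i)).toMonoidHom y * n i = y := by
      change (n i)⁻¹ * (n i * y * (n i)⁻¹) * n i = y
      group
    rw [h3]
    exact hy
  have h2 : (n i)⁻¹ * t * n i ∈ T := by
    have h3 := (Subgroup.mem_normalizer_iff.1 (inv_mem (R.nsys.norm i))) t
    rw [inv_inv] at h3
    exact h3.1 ht
  have h3 : (n i)⁻¹ * (v * t) * n i = ((n i)⁻¹ * v * n i) * ((n i)⁻¹ * t * n i) := by group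
  rw [h3]
  exact mul_mem (U_le_B (Sup_mono (X := X) (S := PosNe cs h i) (S' := Pos cs h) (fun x hx => ⟨hx.1, hx.2.1⟩) h1))
    (T_le_B h2)

/-- The panels. -/
theorem card_panel [Finite W] (R : RGD cs h p T n X) (hgen : RGD.B cs h T X ⊔ NN cs R.nsys = ⊤) (i : I)
    [Finite Y] : Nat.card ((R.bnPair hgen).parabolic {n i}) =
      (1 + Nat.card (X (sr i))) * Nat.card (RGD.B cs h T X) := by
  set P := R.bnPair hgen with hP
  have hS : n i ∈ P.S := ⟨i, rfl⟩
  have hB : P.B = RGD.B cs h T X := rfl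
  have hle : P.B ≤ P.parabolic {n i} := le_sup_left
  have hni : n i ∈ P.parabolic {n i} := Schreier.BNSch.mem_parabolic_self P _
  have hXB : X (sr i) ≤ P.B := X_le_B (isRoot_sr cs h i) (sr_nonneg i)
  have hnB : n i ∉ P.B := Schreier.BNSch.not_mem_B P hS
  symm
  have h0 : (1 + Nat.card (X (sr i))) * Nat.card (RGD.B cs h T X) =
      Nat.card ((Unit ⊕ X (sr i)) × RGD.B cs h T X) := by
    rw [Nat.card_prod, Nat.card_sum, Nat.card_unique (α := Unit)]
  rw [h0]
  let f : (Unit ⊕ X (sr i)) × RGD.B cs h T X → P.parabolic {n i} := fun x =>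
    Sum.elim (fun _ => ⟨x.2, hle x.2.2⟩)
      (fun u : X (sr i) => ⟨(u : Y) * n i * x.2, mul_mem (mul_mem (hle (hXB u.2)) hni) (hle x.2.2)⟩) x.1
  refine Nat.card_congr (Equiv.ofBijective f ⟨?_, ?_⟩)
  · rintro ⟨a, b, hb⟩ ⟨a', b', hb'⟩ hab
    rcases a with ⟨⟩ | ⟨u, hu⟩ <;> rcases a' with ⟨⟩ | ⟨u', hu'⟩
    · have h1 : b = b' := congrArg Subtype.val hab
      subst h1
      rfl
    · exfalso
      have h1 : b = u' * n i * b' := congrArg Subtype.val hab
      apply hnB
      have h2 : n i = u'⁻¹ * b * b'⁻¹ := by rw [h1]; group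
      rw [h2]
      exact mul_mem (mul_mem (inv_mem (hXB hu')) hb) (inv_mem hb')
    · exfalso
      have h1 : u * n i * b = b' := congrArg Subtype.val hab
      apply hnB
      have h2 : n i = u⁻¹ * b' * b⁻¹ := by rw [← h1]; group
      rw [h2]
      exact mul_mem (mul_mem (inv_mem (hXB hu)) hb') (inv_mem hb)
    · have h1 : u * n i * b = u' * n i * b' := congrArg Subtype.val hab
      have h2 : (n i)⁻¹ * (u'⁻¹ * u) * n i = b' * b⁻¹ := by
        have : u = u' * n i * b' * b⁻¹ * (n i)⁻¹ := by rw [← h1]; group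
        rw [this]; group
      have h3 : (n i)⁻¹ * (u'⁻¹ * u) * n i ∈ X (-sr i) := by
        have h4 := R.conj_mem' (rp_simple cs R.nsys i) (isRoot_sr cs h i)
          (show u'⁻¹ * u ∈ X (sr i) from mul_mem (inv_mem hu') hu)
        rwa [cs.inv_simple, rep_simple_sr] at h4
      have h4 : (n i)⁻¹ * (u'⁻¹ * u) * n i = 1 := by
        have h5 : (n i)⁻¹ * (u'⁻¹ * u) * n i ∈ X (-sr i) ⊓ RGD.B cs h T X :=
          Subgroup.mem_inf.2 ⟨h3, by rw [h2]; exact mul_mem hb' (inv_mem hb)⟩
        rwa [Nodes.Unique.neg_inf_B R i, Subgroup.mem_bot] at h5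
      have h5 : u' = u := by
        have : u'⁻¹ * u = 1 := by
          have h6 : u'⁻¹ * u = n i * ((n i)⁻¹ * (u'⁻¹ * u) * n i) * (n i)⁻¹ := by group
          rw [h6, h4]; group
        exact inv_mul_eq_one.1 this
      subst h5
      have h6 : b = b' := mul_left_cancel h1
      subst h6
      rfl
  · rintro ⟨x, hx⟩
    rcases Schreier.BNSch.mem_parabolic_singleton P hS hx with h1 | ⟨b, hb, b', hb', rfl⟩
    · exact ⟨(Sum.inl (), ⟨x, h1⟩), rfl⟩
    · -- `b = u * (v' * t)`
      obtain ⟨v, hv, u, hu, t, ht, rfl⟩ := R.mem_B' i hb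
      have h2 : u⁻¹ * v * u ∈ Sup X (PosNe cs h i) := by
        have h4 : u⁻¹ ∈ X (sr i) := (X (sr i)).inv_mem hu
        have h3 := (Subgroup.mem_normalizer_iff.1 (R.X_le_normalizer_V i h4)) v
        rw [inv_inv] at h3
        exact h3.1 hv
      have h3 := inv_mem_B R i h2 ht
      refine ⟨(Sum.inr ⟨u, hu⟩, ⟨_, mul_mem h3 hb'⟩), ?_⟩
      apply Subtype.ext
      change u * n i * ((n i)⁻¹ * (u⁻¹ * v * u * t) * n i * b') = v * u * t * n i * b'
      group

end

universe u

/-- **Rank two groups of odd characteristic whose simple root groups have different orders.** -/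
theorem three_of_labT {S : Type u} [Group S] [Finite S] [IsSimpleGroup S] {p : ℕ} (hp : p.Prime) (hp2 : p ≠ 2)
    {M : CoxeterMatrix (Fin 2)} (hM : 2 ∣ M 0 1) (hS : LabT p M S) : ThreeInv S := by
  have := Fintype.ofFinite S
  obtain ⟨A, h, T, n, X, hW, R, hX, hne⟩ := hS
  have hgen : RGD.B M.toCoxeterSystem h T X ⊔ NN M.toCoxeterSystem R.nsys = ⊤ := by
    rw [eq_top_iff, ← hX]
    exact Nodes.RGDLib.rgd_G1_le R
  have hSne : (R.bnPair hgen).S.Nonempty := ⟨n ⟨0, by norm_num⟩, _, rfl⟩
  have hsplit := SplitRGD.split_of_rgd hp R hgen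
    (Cfsg.Agent.Tits.OfBN.normalCore_eq_bot (R.bnPair hgen) hSne)
  have hPJ : ∀ i, Nat.card (PJ (R.bnPair hgen) (Equiv.ofInjective n R.n_injective) {i}) =
      (1 + Nat.card (X (sr i))) * Nat.card (RGD.B M.toCoxeterSystem h T X) := by
    intro i
    rw [← card_panel R hgen i]
    unfold PJ
    have h1 : gens (R.bnPair hgen) (Equiv.ofInjective n R.n_injective) {i} = {n i} := by
      unfold gens
      rw [Set.image_singleton]
      rfl
    rw [h1]
  refine BN.three_of_split hsplit hp hp2 (Omega.ML.Ex.Typ.bnType R hgen) {0} ⟨0, rfl⟩ ?_ ?_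
  · intro σ hσ hlab
    have h0 : σ 0 = 0 := by
      by_contra hcon
      have h1 : σ 0 = 1 := by omega
      have h2 := hlab 0
      rw [h1, hPJ, hPJ] at h2
      have h3 : 0 < Nat.card (RGD.B M.toCoxeterSystem h T X) := Nat.card_pos
      have h4 := Nat.eq_of_mul_eq_mul_right h3 h2
      apply hne
      omega
    refine ⟨by rw [Set.image_singleton, h0], 0, ?_⟩
    rw [pow_zero, pow_one]
    apply Equiv.ext
    intro i
    have h1 : σ 1 ≠ 0 := fun h => by
      have := σ.injective (h.trans h0.symm)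
      simp at this
    have h2 : i = 0 ∨ i = 1 := by omega
    rcases h2 with rfl | rfl
    · exact h0
    · show σ 1 = 1
      omega
  · intro W _ _ cs
    exact Idx.index_single cs 0 (j := 0) (k := 1) (by decide) hM

end Cfsg.Agent.H601.OddDeg.LabRow
end
end
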