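import Cfsg.Agent.H307.FourOdd.Defs
import Cfsg.Agent.H119.SLVec
import Cfsg.Agent.S0157
import Cfsg.Agent.S2690
import Cfsg.Agent.H706.GlaubQuot
import Mathlib.NumberTheory.LegendreSymbol.QuadraticChar.Basic
import Cfsg.Agent.H742.TwoC_m3
import Cfsg.Agent.H341.ThreeList_m3
import Cfsg.Agent.Prune
set_option linter.all false
prune_inst 0x7f00000000000000000000000000000000000000000000000000000000000000000000000000000000000000000000000000000000000000000000000000000000000000000000000000000000000000003fffffffffffffffffffffffffffbeffbdffffffff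
open scoped Cfsg.Agent.FastGrp

-- part: H618/InvPSL3
section
/-!
# A real, automorphism invariant, irreducible character of odd degree `q² + q + 1` of `PSL₃(q)`, `q` odd

(helper618, for S4948.) For `M` a `3 × 3`-matrix put `S M = ∑_v ∑_a [M v = a v] η(a)`, `η` the quadratic character. Then
`S / (q-1)` is the character of `SL₃(q)` induced from a character of order two of a parabolic subgroup.
-/

set_option autoImplicit false

namespace Cfsg.Agent.H618.InvPSL3

open Matrix Finset Cfsg Cfsg.Agent.Characters.Core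
open scoped ComplexConjugate

/-! ### Fixed points on orbit spaces of a free action -/

section Quot

variable (G B X : Type*) [Group G] [Group B] [MulAction G X] [MulAction B X] [SMulCommClass G B X]

/-- The orbit space of a commuting action. -/
def Q : Type _ := Quotient (MulAction.orbitRel B X)

instance [Finite X] : Finite (Q B X) := Quotient.finite _

/-- The action on the orbit space of a commuting action. -/
instance quotAct : MulAction G (Q B X) where
  smul g := Quotient.map (fun x => g • x) (by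
    rintro a b ⟨c, rfl⟩
    exact ⟨c, (smul_comm g c b).symm⟩)
  one_smul := by
    rintro ⟨x⟩
    exact congrArg (Quotient.mk _) (one_smul _ x)
  mul_smul := by
    rintro g h ⟨x⟩
    exact congrArg (Quotient.mk _) (mul_smul g h x)

variable {G B X}

/-- The projection to the orbit space. -/
def qmk (B : Type*) {X : Type*} [Group B] [MulAction B X] (x : X) : Q B X := Quotient.mk (MulAction.orbitRel B X) x

theorem smul_mk (g : G) (x : X) : g • (qmk B x) = qmk B (g • x) := rfl

theorem mk_eq_iff (x y : X) : qmk B x = qmk B y ↔ ∃ b : B, b • y = x := Quotient.eq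

theorem card_fixed [Finite B] [Finite X] (hfree : ∀ (b : B) (x : X), b • x = x → b = 1) (g : G) :
    Nat.card B * Nat.card (MulAction.fixedBy (Q B X) g) = Nat.card (Σ b : B, {x : X // g • x = b • x}) := by
  have hfree' : ∀ (b b' : B) (x : X), b • x = b' • x → b = b' := by
    intro b b' x h
    have := hfree (b'⁻¹ * b) x (by rw [mul_smul, h, inv_smul_smul])
    rwa [inv_mul_eq_one, eq_comm] at this
  have e1 : (Σ b : B, {x : X // g • x = b • x}) ≃
      {x : X // g • qmk B x = qmk B x} := by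
    refine Equiv.ofBijective (fun p => ⟨p.2.1, ?_⟩) ⟨?_, ?_⟩
    · rw [smul_mk, mk_eq_iff]
      exact ⟨p.1, p.2.2.symm⟩
    · rintro ⟨b, x, hx⟩ ⟨b', x', hx'⟩ h
      have h1 : x = x' := congrArg Subtype.val h
      subst h1
      have h2 : b = b' := hfree' b b' x (hx.symm.trans hx')
      subst h2
      rfl
    · rintro ⟨x, hx⟩
      rw [smul_mk, mk_eq_iff] at hx
      obtain ⟨b, hb⟩ := hx
      exact ⟨⟨b, x, hb.symm⟩, rfl⟩
  have e2 : B × (MulAction.fixedBy (Q B X) g) ≃
      {x : X // g • qmk B x = qmk B x} := by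
    have hmk : ∀ (b : B) (y : Q B X), qmk B (b • (Quotient.out y : X)) = y := by
      intro b y
      conv_rhs => rw [← Quotient.out_eq y]
      exact (mk_eq_iff _ _).2 ⟨b, rfl⟩
    refine Equiv.ofBijective (fun p => ⟨p.1 • (Quotient.out p.2.1 : X), ?_⟩) ⟨?_, ?_⟩
    · rw [hmk]
      exact p.2.2
    · rintro ⟨b, y, hy⟩ ⟨b', y', hy'⟩ h
      have h1 : b • (Quotient.out y : X) = b' • (Quotient.out y' : X) := congrArg Subtype.val h
      have h2 : y = y' := by rw [← hmk b y, h1, hmk]
      subst h2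
      have h3 := hfree' _ _ _ h1
      subst h3
      rfl
    · rintro ⟨x, hx⟩
      have h1 : qmk B x = qmk B (Quotient.out (qmk B x)) := (Quotient.out_eq _).symm
      obtain ⟨b, hb⟩ := (mk_eq_iff _ _).1 h1
      exact ⟨⟨b, _, hx⟩, Subtype.ext hb⟩
  rw [← Nat.card_prod, Nat.card_congr e2, Nat.card_congr e1]

end Quot

/-! ### The function `S` -/

section S

variable {F : Type*} [Field F] [Fintype F] [DecidableEq F]

/-- The value `η(a)` if `M v = a v`. -/
def e (M : Matrix (Fin 3) (Fin 3) F) (v : Fin 3 → F) : ℤ := ∑ a : F, if M *ᵥ v = a • v then quadraticChar F a else 0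

def S (M : Matrix (Fin 3) (Fin 3) F) : ℤ := ∑ v, e M v

theorem e_zero (h2 : ringChar F ≠ 2) (M : Matrix (Fin 3) (Fin 3) F) : e M 0 = 0 := by
  have h := quadraticChar_sum_zero h2
  unfold e
  rw [← h]
  exact sum_congr rfl fun a _ => by rw [if_pos]; simp

theorem e_smul (M : Matrix (Fin 3) (Fin 3) F) (v : Fin 3 → F) {c : F} (hc : c ≠ 0) : e M (c • v) = e M v := by
  unfold e
  refine sum_congr rfl fun a _ => ?_
  have : M *ᵥ (c • v) = a • c • v ↔ M *ᵥ v = a • v := by
    rw [mulVec_smul, smul_comm a c v]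
    exact smul_right_inj hc
  simp only [this]

theorem e_mul (M N : Matrix (Fin 3) (Fin 3) F) (v : Fin 3 → F) {ν : F} (hν : ν ≠ 0) (h : N *ᵥ v = ν • v) :
    e (M * N) v = quadraticChar F ν * e M v := by
  unfold e
  rw [← mulVec_mulVec, h, mul_sum]
  refine Fintype.sum_equiv (Equiv.mulRight₀ ν⁻¹ (inv_ne_zero hν)) _ _ fun a => ?_
  have h1 : M *ᵥ (ν • v) = a • v ↔ M *ᵥ v = (a * ν⁻¹) • v := by
    rw [mulVec_smul]
    constructor
    · intro h3
      rw [mul_comm, mul_smul, ← h3, inv_smul_smul₀ hν]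
    · intro h3
      rw [h3, smul_smul, mul_comm a, mul_inv_cancel_left₀ hν]
  simp only [h1, Equiv.mulRight₀_apply, mul_ite, mul_zero, ← map_mul, mul_comm a ν⁻¹, mul_inv_cancel_left₀ hν]

theorem e_conj (M N N' : Matrix (Fin 3) (Fin 3) F) (h : N' * N = 1) (v : Fin 3 → F) :
    e (N * M * N') (N *ᵥ v) = e M v := by
  unfold e
  refine sum_congr rfl fun a _ => ?_
  have : (N * M * N') *ᵥ (N *ᵥ v) = a • (N *ᵥ v) ↔ M *ᵥ v = a • v := by
    rw [← mulVec_smul, mulVec_mulVec, mul_assoc, h, mul_one, ← mulVec_mulVec]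
    constructor
    · intro h3
      have := congrArg (N' *ᵥ ·) h3
      simpa [mulVec_mulVec, h, ← mul_assoc] using this
    · intro h3; rw [h3]
  simp only [this]

theorem S_conj (M N N' : Matrix (Fin 3) (Fin 3) F) (h : N' * N = 1) : S (N * M * N') = S M := by
  have h' : N * N' = 1 := mul_eq_one_comm.1 h
  unfold S
  symm
  refine Fintype.sum_equiv
    ⟨fun v => N *ᵥ v, fun v => N' *ᵥ v, fun v => by simp [h], fun v => by simp [h']⟩ _ _ fun v => ?_
  exact (e_conj M N N' h v).symm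

theorem S_inv (M M' : Matrix (Fin 3) (Fin 3) F) (h : M' * M = 1) : S M' = S M := by
  have h' : M * M' = 1 := mul_eq_one_comm.1 h
  unfold S
  refine sum_congr rfl fun v _ => ?_
  unfold e
  refine Fintype.sum_equiv (Equiv.inv F) _ _ fun a => ?_
  by_cases ha : a = 0
  · subst ha; simp
  have h1 : M' *ᵥ v = a • v ↔ M *ᵥ v = a⁻¹ • v := by
    constructor
    · intro h3
      have h5 := congrArg (M *ᵥ ·) h3
      simp only [mulVec_mulVec, h', one_mulVec, mulVec_smul] at h5
      conv_rhs => rw [h5]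
      rw [inv_smul_smul₀ ha]
    · intro h3
      have h5 := congrArg (M' *ᵥ ·) h3
      simp only [mulVec_mulVec, h, one_mulVec, mulVec_smul] at h5
      conv_rhs => rw [h5]
      rw [smul_inv_smul₀ ha]
  have h4 : quadraticChar F a⁻¹ = quadraticChar F a := by
    have h5 : quadraticChar F a * quadraticChar F a⁻¹ = 1 := by
      rw [← map_mul, mul_inv_cancel₀ ha, map_one]
    rcases quadraticChar_dichotomy ha with h6 | h6 <;> rw [h6] at h5 ⊢ <;> linarith
  simp only [Equiv.inv_apply, h1, h4]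

theorem S_map (σ : F ≃+* F) (M : Matrix (Fin 3) (Fin 3) F) : S (M.map σ) = S M := by
  unfold S
  symm
  refine Fintype.sum_equiv (Equiv.arrowCongr (Equiv.refl _) σ.toEquiv) _ _ fun v => ?_
  unfold e
  refine Fintype.sum_equiv σ.toEquiv _ _ fun a => ?_
  have h1 : quadraticChar F (σ a) = quadraticChar F a := by
    by_cases ha : a = 0
    · subst ha; simp
    have ha' : σ a ≠ 0 := by simpa using ha
    have h2 : IsSquare (σ a) ↔ IsSquare a := by
      constructor
      · rintro ⟨b, hb⟩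
        exact ⟨σ.symm b, by apply σ.injective; rw [hb]; simp⟩
      · rintro ⟨b, rfl⟩
        exact ⟨σ b, by simp⟩
    rcases quadraticChar_dichotomy ha with h6 | h6
    · rw [h6]
      exact (quadraticChar_one_iff_isSquare ha').2 (h2.2 ((quadraticChar_one_iff_isSquare ha).1 h6))
    · rw [h6]
      exact quadraticChar_neg_one_iff_not_isSquare.2 fun h => quadraticChar_neg_one_iff_not_isSquare.1 h6 (h2.1 h)
  have h3 : (Equiv.arrowCongr (Equiv.refl (Fin 3)) σ.toEquiv) v = fun i => σ (v i) := rfl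
  have h4 : (M.map σ) *ᵥ (fun i => σ (v i)) = (σ.toEquiv a) • (fun i => σ (v i)) ↔ M *ᵥ v = a • v := by
    have h5 : (M.map σ) *ᵥ (fun i => σ (v i)) = fun i => σ ((M *ᵥ v) i) := by
      funext i
      simp [mulVec, dotProduct]
    rw [h5, funext_iff, funext_iff]
    refine forall_congr' fun i => ?_
    have h6 : ((σ.toEquiv a) • (fun i => σ (v i))) i = σ ((a • v) i) := by
      simp [Pi.smul_apply, smul_eq_mul]
    rw [h6]
    exact σ.injective.eq_iff
  rw [h3]
  simp only [h4]
  simp [h1]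

theorem S_eq_card (M : Matrix (Fin 3) (Fin 3) F) :
    S M = ∑ a : F, quadraticChar F a * (Fintype.card F : ℤ) ^ (3 - (M - a • (1 : Matrix (Fin 3) (Fin 3) F)).rank) := by
  unfold S e
  rw [sum_comm]
  refine sum_congr rfl fun a _ => ?_
  rw [← sum_filter, sum_const, nsmul_eq_mul, mul_comm]
  congr 1
  have h1 : Module.finrank F (LinearMap.ker (M - a • (1 : Matrix (Fin 3) (Fin 3) F)).mulVecLin) =
      3 - (M - a • (1 : Matrix (Fin 3) (Fin 3) F)).rank := by
    have := LinearMap.finrank_range_add_finrank_ker (M - a • (1 : Matrix (Fin 3) (Fin 3) F)).mulVecLin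
    rw [Module.finrank_fin_fun] at this
    unfold Matrix.rank
    omega
  rw [← h1]
  classical
  have h2 := Module.card_eq_pow_finrank (K := F)
    (V := LinearMap.ker (M - a • (1 : Matrix (Fin 3) (Fin 3) F)).mulVecLin)
  rw [← Nat.cast_pow, ← h2, ← Fintype.card_subtype]
  congr 1
  refine Fintype.card_congr (Equiv.subtypeEquivRight fun v => ?_)
  rw [LinearMap.mem_ker, mulVecLin_apply, sub_mulVec, smul_mulVec, one_mulVec, sub_eq_zero]

theorem S_transpose (M : Matrix (Fin 3) (Fin 3) F) : S Mᵀ = S M := by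
  rw [S_eq_card, S_eq_card]
  refine sum_congr rfl fun a _ => ?_
  have h1 : (Mᵀ - a • (1 : Matrix (Fin 3) (Fin 3) F)) = (M - a • (1 : Matrix (Fin 3) (Fin 3) F))ᵀ := by
    rw [transpose_sub, transpose_smul, transpose_one]
  rw [h1, rank_transpose]

theorem S_one (h2 : ringChar F ≠ 2) : S (1 : Matrix (Fin 3) (Fin 3) F) = (Fintype.card F : ℤ) ^ 3 - 1 := by
  have h0 : ∀ v : Fin 3 → F, e (1 : Matrix (Fin 3) (Fin 3) F) v = 1 - if v = 0 then 1 else 0 := by
    intro v
    by_cases hv : v = 0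
    · subst hv; rw [e_zero h2]; simp
    · rw [if_neg hv]
      unfold e
      have h3 : ∀ a : F, (1 : Matrix (Fin 3) (Fin 3) F) *ᵥ v = a • v ↔ a = 1 := by
        intro a
        rw [one_mulVec]
        constructor
        · intro h
          have : (a - 1) • v = 0 := by rw [sub_smul, one_smul, ← h, sub_self]
          rcases smul_eq_zero.1 this with h4 | h4
          · exact sub_eq_zero.1 h4
          · exact absurd h4 hv
        · rintro rfl; rw [one_smul]
      simp only [h3, Finset.sum_ite_eq', mem_univ, if_true, map_one, sub_zero]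
  unfold S
  simp only [h0]
  simp only [_root_.Finset.sum_sub_distrib, _root_.Finset.sum_const, _root_.Finset.card_univ, _root_.Fintype.card_pi, _root_.Finset.prod_const, _root_.Fintype.card_fin, _root_.Int.nsmul_eq_mul, _root_.Nat.cast_pow, _root_.mul_one, _root_.Finset.sum_ite_eq', _root_.Finset.mem_univ, ↓ _root_.reduceIte]

end S

/-! ### The special linear group -/

section SL

open Cfsg.Agent.H119.SLVec

variable {F : Type*} [Field F] [Fintype F] [DecidableEq F]

omit [Fintype F] [DecidableEq F] in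
theorem sl_ne (g : _root_.Matrix.SpecialLinearGroup (Fin 3) F) {v : Fin 3 → F} (hv : v ≠ 0) : g.1 *ᵥ v ≠ 0 := by
  intro h
  apply hv
  have := congrArg (g⁻¹.1 *ᵥ ·) h
  simp only [mulVec_zero] at this
  rw [← mul_mulVec, inv_mul_cancel, one_mulVec'] at this
  exact this

theorem E_indep (h2 : ringChar F ≠ 2) {v w : Fin 3 → F} (h : LinearIndependent F ![v, w]) :
    ∑ g : _root_.Matrix.SpecialLinearGroup (Fin 3) F, e g.1 v * e g.1 w = 0 := by
  obtain ⟨ν, hν⟩ := quadraticChar_exists_neg_one h2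
  have hν0 : ν ≠ 0 := by rintro rfl; simp at hν
  have hli : LinearIndependent F ![ν • v, w] := by
    rw [LinearIndependent.pair_iff] at h ⊢
    intro s t hst
    rw [smul_smul] at hst
    obtain ⟨h3, h4⟩ := h _ _ hst
    exact ⟨(mul_eq_zero.1 h3).resolve_right hν0, h4⟩
  obtain ⟨h0, hv, hw⟩ := exists_map_pair (le_refl 3) h hli
  have h1 : ∑ g : _root_.Matrix.SpecialLinearGroup (Fin 3) F, e g.1 v * e g.1 w =
      ∑ g : _root_.Matrix.SpecialLinearGroup (Fin 3) F, e (g * h0).1 v * e (g * h0).1 w :=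
    (Fintype.sum_equiv (Equiv.mulRight h0) _ _ fun g => rfl).symm
  have h3 : ∀ g : _root_.Matrix.SpecialLinearGroup (Fin 3) F, e (g * h0).1 v * e (g * h0).1 w = - (e g.1 v * e g.1 w) := by
    intro g
    have h4 : (g * h0).1 = g.1 * h0.1 := rfl
    rw [h4, e_mul g.1 h0.1 v hν0 hv, e_mul g.1 h0.1 w one_ne_zero (by rw [hw, one_smul]), hν, map_one]
    ring
  simp only [h3, sum_neg_distrib] at h1
  linarith

theorem e_sq (M : Matrix (Fin 3) (Fin 3) F) {v : Fin 3 → F} (hv : v ≠ 0) :
    e M v * e M v = ∑ a : F, if a ≠ 0 ∧ M *ᵥ v = a • v then 1 else 0 := by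
  by_cases h : ∃ a : F, M *ᵥ v = a • v
  · obtain ⟨a, ha⟩ := h
    have h1 : ∀ b : F, M *ᵥ v = b • v ↔ b = a := by
      intro b
      rw [ha]
      constructor
      · intro h3
        exact (smul_left_injective F hv h3).symm
      · rintro rfl; rfl
    unfold e
    simp only [h1, Finset.sum_ite_eq', mem_univ, if_true]
    by_cases ha0 : a = 0
    · subst ha0
      simp
    · rw [← pow_two, quadraticChar_sq_one ha0]
      rw [sum_eq_single a]
      · simp [ha0]
      · intro b _ hb; simp [hb]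
      · simp
  · have h1 : ∀ a : F, ¬ (M *ᵥ v = a • v) := fun a ha => h ⟨a, ha⟩
    unfold e
    simp [h1]

/-- The number of elements mapping `v` to `u`. -/
def nn (v u : Fin 3 → F) : ℕ := #{g : _root_.Matrix.SpecialLinearGroup (Fin 3) F | g.1 *ᵥ v = u}

theorem nn_eq {v u u' : Fin 3 → F} (hu : u ≠ 0) (hu' : u' ≠ 0) : nn v u = nn v u' := by
  obtain ⟨h, hh⟩ := exists_map_one (n := 3) (by norm_num) hu hu'
  unfold nn
  refine card_bij' (fun g _ => h * g) (fun g _ => h⁻¹ * g) ?_ ?_ ?_ ?_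
  · intro g hg
    simp only [mem_filter, mem_univ, true_and] at hg ⊢
    rw [mul_mulVec, hg, hh]
  · intro g hg
    simp only [mem_filter, mem_univ, true_and] at hg ⊢
    rw [mul_mulVec, hg, ← hh, ← mul_mulVec, inv_mul_cancel, one_mulVec']
  · intro g _; simp
  · intro g _; simp

theorem nn_card {v u : Fin 3 → F} (hv : v ≠ 0) (hu : u ≠ 0) :
    ((Fintype.card F : ℤ) ^ 3 - 1) * nn v u = Fintype.card (_root_.Matrix.SpecialLinearGroup (Fin 3) F) := by
  have h1 : (Fintype.card (_root_.Matrix.SpecialLinearGroup (Fin 3) F) : ℤ) = ∑ u' : Fin 3 → F, (nn v u' : ℤ) := by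
    have := card_eq_sum_card_fiberwise (s := (univ : Finset (_root_.Matrix.SpecialLinearGroup (Fin 3) F)))
      (t := (univ : Finset (Fin 3 → F))) (f := fun g => g.1 *ᵥ v) (fun _ _ => by simp)
    rw [card_univ] at this
    rw [this]
    push_cast
    rfl
  have h2 : ∀ u' : Fin 3 → F, (nn v u' : ℤ) = nn v u - if u' = 0 then (nn v u : ℤ) else 0 := by
    intro u'
    by_cases hu' : u' = 0
    · subst hu'
      rw [if_pos rfl, sub_self]
      unfold nn
      rw [filter_false_of_mem (fun g _ => sl_ne g hv)]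
      simp
    · rw [if_neg hu', sub_zero, nn_eq hu' hu]
  rw [h1, sum_congr rfl fun u' _ => h2 u']
  simp only [sum_sub_distrib, sum_const, card_univ, sum_ite_eq', mem_univ, if_true]
  rw [nsmul_eq_mul, Fintype.card_fun, Fintype.card_fin]
  push_cast
  ring

theorem E_self {v u : Fin 3 → F} (hv : v ≠ 0) (hu : u ≠ 0) :
    ∑ g : _root_.Matrix.SpecialLinearGroup (Fin 3) F, e g.1 v * e g.1 v = ((Fintype.card F : ℤ) - 1) * nn v u := by
  rw [sum_congr rfl fun g _ => e_sq g.1 hv]
  rw [sum_comm]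
  have h1 : ∀ a : F, (∑ g : _root_.Matrix.SpecialLinearGroup (Fin 3) F, if a ≠ 0 ∧ g.1 *ᵥ v = a • v then (1 : ℤ) else 0) =
      nn v u - if a = 0 then (nn v u : ℤ) else 0 := by
    intro a
    by_cases ha : a = 0
    · subst ha; simp only [_root_.ne_eq, _root_.not_true_eq_false, _root_.zero_smul, _root_.false_and, ↓ _root_.reduceIte, _root_.Finset.sum_const_zero, _root_.sub_self]
    · rw [if_neg ha, sub_zero, nn_eq hu (smul_ne_zero ha hv)]
      unfold nn
      simp only [ha, sum_boole, _root_.ne_eq, _root_.not_false_eq_true, _root_.true_and]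
  simp only [h1, sum_sub_distrib, sum_const, card_univ, sum_ite_eq', mem_univ, if_true]
  rw [nsmul_eq_mul]
  ring

theorem E_row (h2 : ringChar F ≠ 2) {v u : Fin 3 → F} (hv : v ≠ 0) (hu : u ≠ 0) :
    ∑ w : Fin 3 → F, ∑ g : _root_.Matrix.SpecialLinearGroup (Fin 3) F, e g.1 v * e g.1 w =
      ((Fintype.card F : ℤ) - 1) ^ 2 * nn v u := by
  have hinj : Function.Injective (fun c : F => c • v) := smul_left_injective F hv
  rw [← sum_subset (subset_univ (univ.map ⟨fun c : F => c • v, hinj⟩))]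
  · rw [sum_map]
    have h1 : ∀ c : F, ∑ g : _root_.Matrix.SpecialLinearGroup (Fin 3) F, e g.1 v * e g.1 (c • v) =
        ((Fintype.card F : ℤ) - 1) * nn v u - if c = 0 then ((Fintype.card F : ℤ) - 1) * nn v u else 0 := by
      intro c
      by_cases hc : c = 0
      · subst hc
        simp only [e_zero h2, _root_.zero_smul, _root_.MulZeroClass.mul_zero, _root_.Finset.sum_const_zero, ↓ _root_.reduceIte, _root_.sub_self]
      · rw [if_neg hc, sub_zero, ← E_self hv hu]
        exact sum_congr rfl fun g _ => by rw [e_smul _ _ hc]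
    simp only [Function.Embedding.coeFn_mk, h1, sum_sub_distrib, sum_const, card_univ, sum_ite_eq', mem_univ,
      if_true]
    simp only [_root_.Int.nsmul_eq_mul]
    ring
  · intro w _ hw
    apply E_indep h2
    rw [LinearIndependent.pair_iff]
    intro s t hst
    by_cases ht : t = 0
    · subst ht
      rw [zero_smul, add_zero] at hst
      exact ⟨(smul_eq_zero.1 hst).resolve_right hv, rfl⟩
    · exfalso
      apply hw
      rw [mem_map]
      refine ⟨-(t⁻¹ * s), mem_univ _, ?_⟩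
      show (-(t⁻¹ * s)) • v = w
      have h3 : t • w = -(s • v) := by
        rw [eq_neg_iff_add_eq_zero, add_comm]; exact hst
      rw [neg_smul, mul_smul, ← smul_neg, ← h3, inv_smul_smul₀ ht]

theorem norm_S (h2 : ringChar F ≠ 2) :
    ∑ g : _root_.Matrix.SpecialLinearGroup (Fin 3) F, S g.1 * S g.1 =
      ((Fintype.card F : ℤ) - 1) ^ 2 * Fintype.card (_root_.Matrix.SpecialLinearGroup (Fin 3) F) := by
  unfold S
  simp only [sum_mul_sum]
  rw [sum_comm]
  have h1 : ∀ v : Fin 3 → F, (∑ g : _root_.Matrix.SpecialLinearGroup (Fin 3) F, ∑ w, e g.1 v * e g.1 w) =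
      ∑ w : Fin 3 → F, ∑ g : _root_.Matrix.SpecialLinearGroup (Fin 3) F, e g.1 v * e g.1 w := fun v => sum_comm
  simp only [h1]
  obtain ⟨u, hu⟩ : ∃ u : Fin 3 → F, u ≠ 0 := ⟨fun _ => 1, fun h => one_ne_zero (congrFun h 0)⟩
  have hq : (Fintype.card F : ℤ) ^ 3 - 1 ≠ 0 := by
    have : (1 : ℤ) < Fintype.card F := by exact_mod_cast Fintype.one_lt_card
    have : (1 : ℤ) < (Fintype.card F : ℤ) ^ 3 := one_lt_pow₀ this (by norm_num)
    omega
  have h3 : ∀ v : Fin 3 → F, ((Fintype.card F : ℤ) ^ 3 - 1) *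
      (∑ w : Fin 3 → F, ∑ g : _root_.Matrix.SpecialLinearGroup (Fin 3) F, e g.1 v * e g.1 w) =
      ((Fintype.card F : ℤ) - 1) ^ 2 * Fintype.card (_root_.Matrix.SpecialLinearGroup (Fin 3) F) -
        if v = 0 then ((Fintype.card F : ℤ) - 1) ^ 2 * Fintype.card (_root_.Matrix.SpecialLinearGroup (Fin 3) F) else 0 := by
    intro v
    by_cases hv : v = 0
    · subst hv
      simp only [e_zero h2, _root_.MulZeroClass.zero_mul, _root_.Finset.sum_const_zero, _root_.MulZeroClass.mul_zero, ↓ _root_.reduceIte, _root_.sub_self]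
    · rw [if_neg hv, sub_zero, E_row h2 hv hu, ← nn_card hv hu]
      ring
  apply mul_left_cancel₀ hq
  rw [mul_sum]
  simp only [h3, sum_sub_distrib, sum_const, card_univ, sum_ite_eq', mem_univ, if_true]
  simp only [_root_.Fintype.card_pi, _root_.Finset.prod_const, _root_.Finset.card_univ, _root_.Fintype.card_fin, _root_.Int.nsmul_eq_mul, _root_.Nat.cast_pow]
  ring

/-! ### `S / (q-1)` is a difference of two characters -/

/-- The nonzero vectors. -/
abbrev X (F : Type*) [Field F] := {v : Fin 3 → F // v ≠ 0}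

instance actX : MulAction (_root_.Matrix.SpecialLinearGroup (Fin 3) F) (X F) where
  smul g v := ⟨g.1 *ᵥ v.1, sl_ne g v.2⟩
  one_smul v := Subtype.ext (one_mulVec' v.1)
  mul_smul g h v := Subtype.ext (mul_mulVec g h v.1)

instance actB (B : Subgroup Fˣ) : MulAction B (X F) where
  smul b v := ⟨((b : Fˣ) : F) • v.1, smul_ne_zero (Units.ne_zero _) v.2⟩
  one_smul v := Subtype.ext (one_smul F v.1)
  mul_smul a b v := Subtype.ext (mul_smul ((a : Fˣ) : F) ((b : Fˣ) : F) v.1)

instance commX (B : Subgroup Fˣ) : SMulCommClass (_root_.Matrix.SpecialLinearGroup (Fin 3) F) B (X F) where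
  smul_comm g b v := Subtype.ext (mulVec_smul g.1 ((b : Fˣ) : F) v.1)

/-- The number of `v ≠ 0` with `g v = b v`. -/
noncomputable def D (g : _root_.Matrix.SpecialLinearGroup (Fin 3) F) (b : Fˣ) : ℕ := Nat.card {x : X F // g.1 *ᵥ x.1 = (b : F) • x.1}

omit [DecidableEq F] in
theorem card_fixed_B (B : Subgroup Fˣ) (g : _root_.Matrix.SpecialLinearGroup (Fin 3) F) :
    Nat.card B * Nat.card (MulAction.fixedBy (Q B (X F)) g) = ∑ᶠ b : B, D g b := by
  classical
  have := Fintype.ofFinite B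
  rw [card_fixed, Nat.card_sigma, finsum_eq_sum_of_fintype]
  · refine sum_congr rfl fun b _ => ?_
    refine Nat.card_congr (Equiv.subtypeEquivRight fun x => ?_)
    exact Subtype.ext_iff
  · intro b x h
    have h1 : ((b : Fˣ) : F) • x.1 = x.1 := congrArg Subtype.val h
    have h2 : (((b : Fˣ) : F) - 1) • x.1 = 0 := by rw [sub_smul, one_smul, h1, sub_self]
    have h3 := (smul_eq_zero.1 h2).resolve_right x.2
    exact Subtype.ext (Units.ext (sub_eq_zero.1 h3))

theorem S_eq_D (h2 : ringChar F ≠ 2) (g : _root_.Matrix.SpecialLinearGroup (Fin 3) F) :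
    S g.1 = ∑ b : Fˣ, quadraticChar F (b : F) * (D g b : ℤ) := by
  have h1 : S g.1 = ∑ x : X F, e g.1 x.1 := by
    unfold S
    have h3 : ∑ x : X F, e g.1 x.1 = ∑ v ∈ univ.filter (fun v : Fin 3 → F => v ≠ 0), e g.1 v :=
      (sum_subtype (univ.filter (fun v : Fin 3 → F => v ≠ 0)) (by simp) (fun v => e g.1 v)).symm
    rw [h3]
    symm
    apply sum_subset (subset_univ _)
    intro v _ hv
    simp only [mem_filter, mem_univ, true_and, not_not] at hv
    rw [hv, e_zero h2]
  have h4 : ∀ x : X F, e g.1 x.1 = ∑ b : Fˣ, if g.1 *ᵥ x.1 = (b : F) • x.1 then quadraticChar F (b : F) else 0 := by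
    intro x
    unfold e
    have h5 : (∑ b : Fˣ, if g.1 *ᵥ x.1 = (b : F) • x.1 then quadraticChar F (b : F) else 0) =
      ∑ a ∈ univ.map ⟨((↑) : Fˣ → F), Units.val_injective⟩, if g.1 *ᵥ x.1 = a • x.1 then quadraticChar F a else 0 := by
      rw [sum_map]; rfl
    rw [h5]
    symm
    apply sum_subset (subset_univ _)
    intro a _ ha
    have ha0 : a = 0 := by
      by_contra h
      exact ha (mem_map.2 ⟨Units.mk0 a h, mem_univ _, rfl⟩)
    subst ha0
    simp
  rw [h1]
  simp only [h4]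
  rw [sum_comm]
  refine sum_congr rfl fun b _ => ?_
  unfold D
  rw [Nat.card_eq_fintype_card, Fintype.card_subtype, ← sum_filter, sum_const, nsmul_eq_mul, mul_comm]

/-- The squares. -/
def sq (F : Type*) [Field F] [Fintype F] [DecidableEq F] : Subgroup Fˣ where
  carrier := {b | quadraticChar F (b : F) = 1}
  one_mem' := by simp only [Set.mem_ofPred_eq, Units.val_one, map_one]
  mul_mem' {a b} ha hb := by
    simp only [Set.mem_ofPred_eq, Units.val_mul, map_mul] at ha hb ⊢
    rw [ha, hb, mul_one]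
  inv_mem' {a} ha := by
    simp only [Set.mem_ofPred_eq] at ha ⊢
    have h : quadraticChar F ((a : F) * ((a⁻¹ : Fˣ) : F)) = 1 := by
      rw [← Units.val_mul, mul_inv_cancel, Units.val_one, map_one]
    rwa [map_mul, ha, one_mul] at h

instance (b : Fˣ) : Decidable (b ∈ sq F) := decidable_of_iff (quadraticChar F (b : F) = 1) Iff.rfl

theorem two_sum (h : Fˣ → ℤ) : 2 * ∑ b : Fˣ, (if b ∈ sq F then h b else 0) =
    ∑ b : Fˣ, h b + ∑ b : Fˣ, quadraticChar F (b : F) * h b := by
  rw [mul_sum, ← sum_add_distrib]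
  refine sum_congr rfl fun b _ => ?_
  by_cases hb : b ∈ sq F
  · have h1 : quadraticChar F (b : F) = 1 := hb
    rw [if_pos hb, h1]; ring
  · have h1 : quadraticChar F (b : F) = -1 :=
      (quadraticChar_dichotomy b.ne_zero).resolve_left hb
    rw [if_neg hb, h1]; ring

theorem sum_units (h2 : ringChar F ≠ 2) : ∑ b : Fˣ, quadraticChar F (b : F) = 0 := by
  rw [← quadraticChar_sum_zero h2]
  have h5 : (∑ b : Fˣ, quadraticChar F (b : F)) =
      ∑ a ∈ univ.map ⟨((↑) : Fˣ → F), Units.val_injective⟩, quadraticChar F a := by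
    rw [sum_map]; rfl
  rw [h5]
  apply sum_subset (subset_univ _)
  intro a _ ha
  have ha0 : a = 0 := by
    by_contra h
    exact ha (mem_map.2 ⟨Units.mk0 a h, mem_univ _, rfl⟩)
  subst ha0
  simp

theorem sum_sub_sq (h : Fˣ → ℤ) : ∑ b : sq F, h b = ∑ b : Fˣ, (if b ∈ sq F then h b else 0) := by
  rw [← sum_filter]
  exact (sum_subtype (univ.filter (· ∈ sq F)) (by simp) h).symm

theorem S_eq_pi (h2 : ringChar F ≠ 2) (g : _root_.Matrix.SpecialLinearGroup (Fin 3) F) :
    S g.1 = ((Fintype.card F : ℤ) - 1) * (Nat.card (MulAction.fixedBy (Q (sq F) (X F)) g) -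
      Nat.card (MulAction.fixedBy (Q (⊤ : Subgroup Fˣ) (X F)) g)) := by
  have hq : (Fintype.card Fˣ : ℤ) = (Fintype.card F : ℤ) - 1 := by
    rw [Fintype.card_units]
    have := Fintype.card_pos (α := F)
    omega
  have h3 := two_sum (fun _ : Fˣ => (1 : ℤ))
  have h4 := two_sum (fun b : Fˣ => (D g b : ℤ))
  rw [← sum_sub_sq] at h3 h4
  simp only [mul_one, sum_units h2, sum_const, card_univ, nsmul_eq_mul, add_zero, hq] at h3
  rw [← S_eq_D h2] at h4
  have h5 := card_fixed_B (sq F) g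
  have h6 := card_fixed_B (⊤ : Subgroup Fˣ) g
  have : Fintype (⊤ : Subgroup Fˣ) := Fintype.ofFinite _
  rw [finsum_eq_sum_of_fintype] at h5 h6
  have h7 : ∑ b : (⊤ : Subgroup Fˣ), D g b = ∑ b : Fˣ, D g b :=
    Fintype.sum_equiv Subgroup.topEquiv.toEquiv _ _ fun b => rfl
  rw [h7] at h6
  have h8 : Nat.card (⊤ : Subgroup Fˣ) = Fintype.card Fˣ := by
    rw [Subgroup.card_top, Nat.card_eq_fintype_card]
  rw [h8] at h6
  rw [Nat.card_eq_fintype_card] at h5
  have h5' : (Fintype.card (sq F) : ℤ) * Nat.card (MulAction.fixedBy (Q (sq F) (X F)) g) = ∑ b : sq F, (D g b : ℤ) := by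
    exact_mod_cast h5
  have h6' : (Fintype.card Fˣ : ℤ) * Nat.card (MulAction.fixedBy (Q (⊤ : Subgroup Fˣ) (X F)) g) =
    ∑ b : Fˣ, (D g b : ℤ) := by exact_mod_cast h6
  rw [hq] at h6'
  rw [mul_sub, h6', ← h3, mul_assoc, h5']
  linarith only [h4]

/-! ### The character -/

/-- The character of `SL₃(q)`. -/
noncomputable def psi (g : _root_.Matrix.SpecialLinearGroup (Fin 3) F) : ℂ := (S g.1 : ℂ) / ((Fintype.card F : ℂ) - 1)

omit [DecidableEq F] in
theorem cardF_ne : (Fintype.card F : ℂ) - 1 ≠ 0 := by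
  have h : 1 < Fintype.card F := Fintype.one_lt_card
  intro h1
  rw [sub_eq_zero] at h1
  have : Fintype.card F = 1 := by exact_mod_cast h1
  omega

theorem psi_gen (h2 : ringChar F ≠ 2) :
    IsGeneralizedCharacter (_root_.Matrix.SpecialLinearGroup (Fin 3) F) (psi (F := F)) := by
  refine ⟨_, _, S0157.isCharacter_fixedBy (G := _root_.Matrix.SpecialLinearGroup (Fin 3) F) (Q (sq F) (X F)),
    S0157.isCharacter_fixedBy (G := _root_.Matrix.SpecialLinearGroup (Fin 3) F) (Q (⊤ : Subgroup Fˣ) (X F)), ?_⟩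
  funext g
  rw [Pi.sub_apply]
  unfold psi
  rw [S_eq_pi h2 g, div_eq_iff cardF_ne]
  push_cast
  ring

theorem psi_inner (h2 : ringChar F ≠ 2) : classInner (psi (F := F)) (psi (F := F)) = 1 := by
  rw [classInner_def]
  have h1 : ∀ g : _root_.Matrix.SpecialLinearGroup (Fin 3) F, psi g * conj (psi g) =
      ((S g.1 * S g.1 : ℤ) : ℂ) / ((Fintype.card F : ℂ) - 1) ^ 2 := by
    intro g
    unfold psi
    simp only [map_div₀, map_sub, map_intCast, map_natCast, map_one]
    push_cast
    field_simp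
  simp only [h1]
  rw [← sum_div, ← Int.cast_sum, norm_S h2, Nat.card_eq_fintype_card]
  have h3 : (Fintype.card (_root_.Matrix.SpecialLinearGroup (Fin 3) F) : ℂ) ≠ 0 := by
    exact_mod_cast Fintype.card_ne_zero
  have h4 := cardF_ne (F := F)
  push_cast
  field_simp

theorem psi_one (h2 : ringChar F ≠ 2) :
    psi (1 : _root_.Matrix.SpecialLinearGroup (Fin 3) F) = (Fintype.card F : ℂ) ^ 2 + Fintype.card F + 1 := by
  have h4 := cardF_ne (F := F)
  unfold psi
  have h5 : (1 : _root_.Matrix.SpecialLinearGroup (Fin 3) F).1 = (1 : Matrix (Fin 3) (Fin 3) F) := rfl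
  rw [h5, S_one h2, div_eq_iff h4]
  push_cast
  ring

theorem psi_irr (h2 : ringChar F ≠ 2) : IsIrrCharacter (_root_.Matrix.SpecialLinearGroup (Fin 3) F) (psi (F := F)) := by
  rcases isIrr_of_generalized (psi_gen h2) (psi_inner h2) with h | h
  · exact h
  · exfalso
    obtain ⟨d, hd, hd1⟩ := isIrr_apply_one h
    rw [Pi.neg_apply, psi_one h2] at hd1
    have h3 : ((d + (Fintype.card F ^ 2 + Fintype.card F + 1) : ℕ) : ℂ) = 0 := by
      push_cast; rw [← hd1]; ring
    have h4 : d + (Fintype.card F ^ 2 + Fintype.card F + 1) = 0 := by exact_mod_cast h3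
    omega

theorem psi_center {z : _root_.Matrix.SpecialLinearGroup (Fin 3) F}
    (hz : z ∈ Subgroup.center (_root_.Matrix.SpecialLinearGroup (Fin 3) F)) (g : _root_.Matrix.SpecialLinearGroup (Fin 3) F) :
    psi (z * g) = psi g := by
  obtain ⟨r, hr, hrz⟩ := Matrix.SpecialLinearGroup.mem_center_iff.1 hz
  have hr3 : r ^ 3 = 1 := by simpa only [_root_.Fintype.card_fin] using hr
  have hr0 : r ≠ 0 := by rintro rfl; simp at hr3
  have h1 : quadraticChar F r = 1 := by
    rw [quadraticChar_one_iff_isSquare hr0]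
    exact ⟨r ^ 2, by rw [← pow_add]; norm_num; rw [show (4 : ℕ) = 3 + 1 from rfl, pow_succ, hr3, one_mul]⟩
  have h3 : S (z * g).1 = S g.1 := by
    unfold S
    refine sum_congr rfl fun v _ => ?_
    have h4 : (z * g).1 = g.1 * z.1 := by
      rw [← Subgroup.mem_center_iff.1 hz g]
      rfl
    rw [h4, e_mul g.1 z.1 v hr0, h1, one_mul]
    rw [← hrz]
    simp [Matrix.scalar_apply]
  unfold psi
  rw [h3]

end SL

/-- **`PSL₃(q)`, `q` odd, has a real irreducible character of odd degree `q² + q + 1` invariant under all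
automorphisms.** -/
theorem exists_inv_psl3 {F : Type} [Field F] [Fintype F] (h2 : (2 : F) ≠ 0) :
    ∃ χ : Matrix.ProjectiveSpecialLinearGroup (Fin 3) F → ℂ, Cfsg.Agent.H601.OddDeg.Inv χ ∧
      χ 1 = (Fintype.card F : ℂ) ^ 2 + Fintype.card F + 1 := by
  classical
  have hr : ringChar F ≠ 2 := by
    intro h
    apply h2
    have := CharP.cast_eq_zero F (ringChar F)
    rw [h] at this
    exact_mod_cast this
  obtain ⟨χ, hχ⟩ := Cfsg.Agent.H706.GlaubQuot.exists_deflate
    (Subgroup.center (_root_.Matrix.SpecialLinearGroup (Fin 3) F)) (psi_irr hr) (fun n hn g => psi_center hn g)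
  have hval : ∀ g : _root_.Matrix.SpecialLinearGroup (Fin 3) F, (χ : ProjectiveSpecialLinearGroup (Fin 3) F → ℂ) (QuotientGroup.mk g) = psi g := fun g =>
    (congrFun hχ g).symm
  have h1 : (χ : ProjectiveSpecialLinearGroup (Fin 3) F → ℂ) 1 = (Fintype.card F : ℂ) ^ 2 + Fintype.card F + 1 := by
    rw [← psi_one hr, ← hval]
    rfl
  refine ⟨χ, ⟨χ.2, ?_, ?_, ?_⟩, h1⟩
  · intro x
    induction x using QuotientGroup.induction_on with
    | H g =>
      rw [hval]
      unfold psi
      have : (S g.1 : ℂ) / ((Fintype.card F : ℂ) - 1) = (((S g.1 : ℝ) / ((Fintype.card F : ℝ) - 1) : ℝ) : ℂ) := by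
        push_cast; rfl
      rw [this, Complex.ofReal_im]
  · have h3 : charDegree (χ : ProjectiveSpecialLinearGroup (Fin 3) F → ℂ) = Fintype.card F ^ 2 + Fintype.card F + 1 := by
      apply Cfsg.Agent.Blocks.Basic.charDegree_of_eq
      rw [h1]; push_cast; rfl
    rw [h3]
    have h4 : Even (Fintype.card F ^ 2 + Fintype.card F) := by
      rw [pow_two]; exact Nat.even_mul_succ_self _ 
    intro h5
    have := (Nat.even_add_one (n := Fintype.card F ^ 2 + Fintype.card F)).1 (even_iff_two_dvd.2 h5)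
    exact this h4
  · intro φ x
    obtain ⟨p, f, hf, hp, hF⟩ : ∃ (p f : ℕ), 0 < f ∧ p.Prime ∧ Fintype.card F = p ^ f := by
      obtain ⟨f, hp, h⟩ := FiniteField.card F (ringChar F)
      exact ⟨ringChar F, f, f.pos, hp, h⟩
    have : Fact p.Prime := ⟨hp⟩
    obtain ⟨δ, τ, γ, σ, ⟨g₀, hδ⟩, hτ, hγ, rfl⟩ := Cfsg.Agent.S2690.result hF hf (n := 3) (by norm_num) (by norm_num) φ
    have hδ' : ∀ x, (χ : ProjectiveSpecialLinearGroup (Fin 3) F → ℂ) (δ x) = (χ : ProjectiveSpecialLinearGroup (Fin 3) F → ℂ) x := by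
      intro x
      induction x using QuotientGroup.induction_on with
      | H s =>
        have hdet : (((g₀ : GL (Fin 3) F) : Matrix (Fin 3) (Fin 3) F) * s.1 *
            ((g₀⁻¹ : GL (Fin 3) F) : Matrix (Fin 3) (Fin 3) F)).det = 1 := by
          rw [det_mul, det_mul, mul_right_comm, ← det_mul, ← Units.val_mul, mul_inv_cancel, Units.val_one, det_one,
            one_mul]
          exact s.2
        obtain ⟨s', hs'⟩ : ∃ s' : _root_.Matrix.SpecialLinearGroup (Fin 3) F, s'.1 = ((g₀ : GL (Fin 3) F) : Matrix (Fin 3) (Fin 3) F) *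
            s.1 * ((g₀⁻¹ : GL (Fin 3) F) : Matrix (Fin 3) (Fin 3) F) := ⟨⟨_, hdet⟩, rfl⟩
        rw [hδ s s' hs', hval, hval]
        unfold psi
        rw [hs', S_conj]
        rw [← Units.val_mul, inv_mul_cancel, Units.val_one]
    have hτ' : ∀ x, (χ : ProjectiveSpecialLinearGroup (Fin 3) F → ℂ) (τ x) = (χ : ProjectiveSpecialLinearGroup (Fin 3) F → ℂ) x := by
      intro x
      induction x using QuotientGroup.induction_on with
      | H s =>
        rw [hτ s (SpecialLinearGroup.map (σ : F →+* F) s) rfl, hval, hval]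
        unfold psi
        have : (SpecialLinearGroup.map (σ : F →+* F) s).1 = s.1.map σ := rfl
        rw [this, S_map]
    have hγ' : ∀ x, (χ : ProjectiveSpecialLinearGroup (Fin 3) F → ℂ) (γ x) = (χ : ProjectiveSpecialLinearGroup (Fin 3) F → ℂ) x := by
      intro x
      rcases hγ with hγ | hγ
      · rw [hγ]; rfl
      induction x using QuotientGroup.induction_on with
      | H s =>
        have hdet : (s⁻¹.1.transpose).det = 1 := by rw [det_transpose]; exact s⁻¹.2
        obtain ⟨s', hs'⟩ : ∃ s' : _root_.Matrix.SpecialLinearGroup (Fin 3) F, s'.1 = s⁻¹.1.transpose := ⟨⟨_, hdet⟩, rfl⟩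
        rw [hγ s s' hs', hval, hval]
        unfold psi
        rw [hs', S_transpose, S_inv s.1 s⁻¹.1]
        have : s⁻¹ * s = 1 := inv_mul_cancel s
        exact congrArg Subtype.val this
    show (χ : ProjectiveSpecialLinearGroup (Fin 3) F → ℂ) (δ (τ (γ x))) = _
    rw [hδ', hτ', hγ']

end Cfsg.Agent.H618.InvPSL3
end

-- part: H601/OddDeg/Small
section
/-!
# `PSL_3(q)` and `PSU_3(q)`, `q` odd
-/

set_option autoImplicit false
set_option linter.unusedSectionVars false

namespace Cfsg.Agent.H601.OddDeg.Small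

open Cfsg Cfsg.Agent.FixBN Cfsg.Agent.Omega.ML.Ex.Typ Cfsg.Agent.Characters.Core

universe u

theorem inv_one {K : Type u} [Group K] [Finite K] : Inv (1 : K → ℂ) := by
  refine ⟨isIrr_one, fun x => by simp, ?_, fun φ x => rfl⟩
  rw [charDegree]
  simp

/-- two different degrees, different from one -/
theorem three_of_degrees {K : Type u} [Group K] [Finite K] {χ ψ : K → ℂ} (hχ : Inv χ) (hψ : Inv ψ) (h1 : χ 1 ≠ 1)
    (h2 : ψ 1 ≠ 1) (h3 : χ 1 ≠ ψ 1) : ThreeInv K := by
  refine ⟨1, χ, ψ, inv_one, hχ, hψ, ?_, ?_, ?_⟩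
  · rintro rfl
    exact h1 rfl
  · rintro rfl
    exact h2 rfl
  · rintro rfl
    exact h3 rfl

/-- the Steinberg character of a group with a root group datum -/
theorem exists_st {K : Type u} [Group K] [Finite K] [IsSimpleGroup K] {p : ℕ} (hp : p.Prime) (hp2 : p ≠ 2) {l : ℕ}
    (hl : 0 < l) {M : CoxeterMatrix (Fin l)} (h : HasRGDT p M K) :
    ∃ (Q : Sylow p K) (χ : K → ℂ), Inv χ ∧ χ 1 = Nat.card Q ∧ p ∣ Nat.card Q := by
  have : Fact p.Prime := ⟨hp⟩
  have := Fintype.ofFinite K
  obtain ⟨P, U, e, hs, hM⟩ := h.hasSplitT hp hl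
  obtain ⟨Q, hQ⟩ := H612.CharTwo.exists_sylow hs
  obtain ⟨χ, h1, h2, -⟩ := SteinbergInv.inv_of_split hs hp hp2 hM
  refine ⟨Q, χ, h1, ?_, ?_⟩
  · have h3 : Nat.card (Q : Subgroup K) = Nat.card U := by rw [hQ]
    rw [h2, ← h3]
  · obtain ⟨V, hV⟩ := hs.node (e ⟨0, hl⟩) (e ⟨0, hl⟩).2
    obtain ⟨u, hu, huV⟩ := hV.ne
    have h3 : Nat.card (Q : Subgroup K) ≠ 1 := by
      intro h4
      rw [Subgroup.card_eq_one] at h4
      rw [hQ] at h4
      rw [h4, Subgroup.mem_bot] at hu
      rw [hu] at huV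
      exact huV (one_mem _)
    obtain ⟨k, hk⟩ := IsPGroup.iff_card.1 Q.2
    change p ∣ Nat.card (Q : Subgroup K)
    rw [hk] at h3 ⊢
    refine dvd_pow_self p ?_
    rintro rfl
    exact h3 (pow_zero p)

variable {F : Type} [Field F] [Fintype F] {p : ℕ} [CharP F p]

omit [Fintype F] in
theorem two_ne (hp2 : p ≠ 2) : (2 : F) ≠ 0 := by
  intro h
  have h1 : p ∣ 2 := (CharP.cast_eq_zero_iff F p 2).1 (by exact_mod_cast h)
  rcases (Nat.dvd_prime Nat.prime_two).1 h1 with h2 | h2
  · subst h2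
    exact CharP.ringChar_ne_one (R := F) ((CharP.eq F (ringChar.charP F) inferInstance))
  · exact hp2 h2

theorem three_psl3 (hp : p.Prime) (hp2 : p ≠ 2) [IsSimpleGroup (Matrix.ProjectiveSpecialLinearGroup (Fin 3) F)] :
    ThreeInv (Matrix.ProjectiveSpecialLinearGroup (Fin 3) F) := by
  have : Fact p.Prime := ⟨hp⟩
  obtain ⟨χ, hχ, hχ1⟩ := H618.InvPSL3.exists_inv_psl3 (two_ne (F := F) hp2)
  obtain ⟨Q, ψ, hψ, hψ1, hQ⟩ := exists_st hp hp2 (by norm_num) (typ_PSL (F := F) 2 (p := p))
  have h2 : p ∣ Fintype.card F := by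
    have h3 : ((Fintype.card F : ℕ) : F) = 0 := FiniteField.cast_card_eq_zero F
    exact (CharP.cast_eq_zero_iff F p _).1 h3
  refine three_of_degrees hχ hψ ?_ ?_ ?_
  · rw [hχ1]
    have h3 : Fintype.card F ^ 2 + Fintype.card F + 1 ≠ 1 := by
      have := Fintype.card_pos (α := F)
      omega
    exact_mod_cast h3
  · rw [hψ1]
    have h3 : Nat.card Q ≠ 1 := by
      intro h4
      rw [h4] at hQ
      exact hp.one_lt.ne' (Nat.dvd_one.1 hQ)
    exact_mod_cast h3
  · rw [hχ1, hψ1]
    have h3 : Fintype.card F ^ 2 + Fintype.card F + 1 ≠ Nat.card Q := by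
      intro h4
      rw [← h4] at hQ
      have h5 : p ∣ Fintype.card F ^ 2 + Fintype.card F := dvd_add (dvd_pow h2 two_ne_zero) h2
      have h6 := (Nat.dvd_add_right h5).1 hQ
      exact hp.one_lt.ne' (Nat.dvd_one.1 h6)
    exact_mod_cast h3

/-- the order of the Sylow `p`-subgroups of `PSU_3(q)` -/
theorem card_sylow_psu3 (hp : p.Prime) {q : ℕ} (hF : Fintype.card F = q ^ 2)
    (Q : Sylow p (PSU 3 F q)) : Nat.card Q = q ^ 3 := by
  have : Fact p.Prime := ⟨hp⟩
  have h1 := H321.Orders.psu_eq (F := F) (n := 3) hF (by norm_num)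
  obtain ⟨n, hn⟩ : ∃ n, q = p ^ n := by
    obtain ⟨m, hpm, hm⟩ := FiniteField.card F p
    have h2 : q ∣ p ^ (m : ℕ) := by
      rw [← hm, hF]
      exact dvd_pow_self q two_ne_zero
    obtain ⟨n, -, hn⟩ := (Nat.dvd_prime_pow hp).1 h2
    exact ⟨n, hn⟩
  have hn1 : n ≠ 0 := by
    rintro rfl
    have h2 := Fintype.one_lt_card (α := F)
    rw [hF, hn] at h2
    simp at h2
  have hpq : p ∣ q := by rw [hn]; exact dvd_pow_self p hn1
  have hq0 : 0 < q := by rw [hn]; exact pow_pos hp.pos n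
  have hpr : OrdDiv.prU q 3 = (q + 1) * (q ^ 2 - 1) * (q ^ 3 + 1) := by
    unfold OrdDiv.prU
    simp only [List.range_succ, mul_assoc, _root_.Nat.beq_eq, _root_.List.range_zero, _root_.List.nil_append, _root_.List.cons_append, _root_.List.map_cons, _root_.Nat.zero_mod, ↓ _root_.reduceIte, _root_.zero_add, _root_.pow_one, _root_.Nat.mod_succ, _root_.one_ne_zero, _root_.Nat.reduceAdd, _root_.Nat.mod_self, _root_.List.map_nil, _root_.List.prod_cons, _root_.List.prod_nil, _root_.mul_one]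
  have hnp : ∀ k, k ≠ 0 → ¬ p ∣ q ^ k + 1 := by
    intro k hk h2
    have h3 := (Nat.dvd_add_right (dvd_pow hpq hk)).1 h2
    exact hp.one_lt.ne' (Nat.dvd_one.1 h3)
  have hnm : ¬ p ∣ q ^ 2 - 1 := by
    intro h2
    have h3 : 1 ≤ q ^ 2 := Nat.one_le_pow _ _ hq0
    have h4 : p ∣ q ^ 2 - (q ^ 2 - 1) := Nat.dvd_sub (dvd_pow hpq two_ne_zero) h2
    have h5 : q ^ 2 - (q ^ 2 - 1) = 1 := by omega
    rw [h5] at h4
    exact hp.one_lt.ne' (Nat.dvd_one.1 h4)
  have hn1' : ¬ p ∣ q + 1 := by simpa using hnp 1 one_ne_zero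
  have hb : ¬ p ∣ OrdDiv.prU q 3 := by
    rw [hpr, hp.dvd_mul, hp.dvd_mul]
    push Not
    exact ⟨⟨hn1', hnm⟩, hnp 3 (by norm_num)⟩
  have ha : ¬ p ∣ Nat.gcd 3 (q + 1) * (q + 1) := by
    rw [hp.dvd_mul]
    push Not
    exact ⟨fun h => hn1' (h.trans (Nat.gcd_dvd_right _ _)), hn1'⟩
  have h2 := congrArg (fun m : ℕ => m.factorization p) h1
  have ha0 : Nat.gcd 3 (q + 1) * (q + 1) ≠ 0 := fun h => ha (by rw [h]; exact dvd_zero p)
  have hb0 : OrdDiv.prU q 3 ≠ 0 := fun h => hb (by rw [h]; exact dvd_zero p)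
  rw [Nat.factorization_mul ha0 Nat.card_pos.ne', Nat.factorization_mul (pow_pos hq0 _).ne' hb0, Finsupp.add_apply, Finsupp.add_apply,
    Nat.factorization_eq_zero_of_not_dvd ha, Nat.factorization_eq_zero_of_not_dvd hb, zero_add, add_zero] at h2
  rw [Q.card_eq_multiplicity, h2, hn, ← pow_mul, hp.factorization_pow, Finsupp.single_eq_same]

/-- `PSU_3(q)`, from a character of degree different from `1`, `q ^ 3` -/
theorem three_psu3_of (hp : p.Prime) (hp2 : p ≠ 2) {q : ℕ} (hF : Fintype.card F = q ^ 2)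
    [IsSimpleGroup (PSU 3 F q)]
    (h : ∃ χ : PSU 3 F q → ℂ, Inv χ ∧ χ 1 ≠ 1 ∧ χ 1 ≠ (q : ℂ) ^ 3) : ThreeInv (PSU 3 F q) := by
  have : Fact p.Prime := ⟨hp⟩
  obtain ⟨χ, hχ, h1, h2⟩ := h
  obtain ⟨m, hm, hR⟩ := typ_PSU (p := p) hF (N := 3) le_rfl
  obtain ⟨Q, ψ, hψ, hψ1, hQ⟩ := exists_st hp hp2 (by omega) hR
  refine three_of_degrees hχ hψ h1 ?_ ?_
  · rw [hψ1]
    have h3 : Nat.card Q ≠ 1 := by
      intro h4
      rw [h4] at hQ
      exact hp.one_lt.ne' (Nat.dvd_one.1 hQ)
    exact_mod_cast h3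
  · rw [hψ1, card_sylow_psu3 hp hF Q]
    push_cast
    exact h2

end Cfsg.Agent.H601.OddDeg.Small
end

private theorem dce_27654485ed06 : _root_.True := by
  try have : _root_.True := by simp only [_root_.Cfsg.Agent.H618.InvPSL3.nn.congr_simp]
  try have : _root_.True := by simp only [_root_.Cfsg.Agent.H618.InvPSL3.S.congr_simp]
  try have : _root_.True := by simp only [_root_.Cfsg.Agent.H618.InvPSL3.e.congr_simp]
  try have : _root_.True := by simp only [_root_.Cfsg.Agent.H618.InvPSL3.psi.congr_simp]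
  exact _root_.True.intro
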